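import Cfsg.Agent.Lib.SERegular.Factor
import Mathlib.GroupTheory.Sylow

/-!
# When the centraliser of the involutions has odd index in the stabiliser
-/

set_option autoImplicit false
set_option linter.unusedSectionVars false
set_option linter.style.haveILetI false

namespace Cfsg.Agent.SERegular

open MulAction Subgroup

universe u v

variable {G : Type u} {Ω : Type v} [Group G] [MulAction G Ω] [Finite G] {a : Ω}

/-- The hypotheses without the parity of the index. -/
structure Pre (G : Type u) (Ω : Type v) [Group G] [MulAction G Ω] (a : Ω) : Prop where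
  inv_fix : ∀ t : G, orderOf t = 2 → ∃! c : Ω, t • c = c
  comm : ∀ s t : G, orderOf s = 2 → orderOf t = 2 → s • a = a → t • a = a → s * t = t * s
  conj : ∀ s t : G, orderOf s = 2 → orderOf t = 2 → s • a = a → t • a = a →
    ∃ h : G, h • a = a ∧ h * s * h⁻¹ = t

/-- A soluble stabiliser: the centraliser of the involutions has odd index. -/
theorem Pre.odd_of_solvable (hp : Pre G Ω a) (hsol : Group.IsSolvable (stabilizer G a)) :
    Odd ((uCent G a).relIndex (stabilizer G a)) := by
  classical
  haveI := hsol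
  haveI hCn : ((uCent G a).subgroupOf (stabilizer G a)).Normal := by
    refine ⟨fun n hn g => ?_⟩
    rw [mem_subgroupOf, mem_uCent] at hn ⊢
    refine ⟨(g * n * g⁻¹ : stabilizer G a).2, fun t ht hta => ?_⟩
    have h1 := hn.2 ((g : G)⁻¹ * t * (g : G)⁻¹⁻¹) ((Invol.order_conj _ _).trans ht)
      (by rw [mul_smul, mul_smul, inv_inv, g.2, hta, inv_smul_eq_iff, g.2])
    push_cast
    calc t * ((g : G) * n * (g : G)⁻¹) = g * ((g : G)⁻¹ * t * (g : G)⁻¹⁻¹ * n) * (g : G)⁻¹ := by group
      _ = g * (n * ((g : G)⁻¹ * t * (g : G)⁻¹⁻¹)) * (g : G)⁻¹ := by rw [h1]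
      _ = _ := by group
  set C := (uCent G a).subgroupOf (stabilizer G a)
  show Odd C.index
  rcases subsingleton_or_nontrivial (stabilizer G a ⧸ C) with hsub | hnon
  · rw [Subgroup.index_eq_card, Nat.card_of_subsingleton (1 : stabilizer G a ⧸ C)]
    exact odd_one
  haveI : Group.IsSolvable (stabilizer G a ⧸ C) :=
    Group.isSolvable_of_surjective (QuotientGroup.mk'_surjective C)
  obtain ⟨l, A, hl, hAn, hA1, hAp, -⟩ := exists_normal_elem (K := stabilizer G a ⧸ C)
  haveI := hAn
  haveI := Fact.mk hl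
  set N := A.comap (QuotientGroup.mk' C)
  -- the Sylow subgroup of the preimage fixes no involution
  obtain ⟨T⟩ : Nonempty (Sylow l N) := inferInstance
  set T' := (T : Subgroup N).map N.subtype with hT'
  have hnofix : ∀ v : G, orderOf v = 2 → v • a = a → ¬ ∀ x ∈ T', (x : G) * v = v * x := by
    intro v hv hva hcom
    -- the image of `T'` is `A`, so `A` fixes every involution
    refine hA1 ((Subgroup.eq_bot_iff_forall A).2 fun q hq => ?_)
    obtain ⟨g, rfl⟩ := QuotientGroup.mk_surjective q
    rw [QuotientGroup.eq_one_iff, mem_subgroupOf, mem_uCent]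
    refine ⟨g.2, fun t ht hta => ?_⟩
    obtain ⟨h, hha, hh⟩ := hp.conj v t hv ht hva hta
    have hg' : (⟨h, hha⟩ : stabilizer G a)⁻¹ * g * ⟨h, hha⟩ ∈ N := by
      show QuotientGroup.mk' C _ ∈ A
      have := hAn.conj_mem _ hq (QuotientGroup.mk' C (⟨h, hha⟩ : stabilizer G a)⁻¹)
      simpa [map_mul, map_inv] using this
    have himg : ((T : Subgroup N).map ((QuotientGroup.mk' C).comp N.subtype)) = A := by
      refine le_antisymm ?_ ?_
      · rintro _ ⟨x, -, rfl⟩
        exact x.2
      · obtain ⟨k, hk⟩ := IsPGroup.iff_card.1 hAp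
        refine Subgroup.relIndex_eq_one.1 (Nat.eq_one_of_dvd_coprimes
          ((hl.coprime_iff_not_dvd.2 T.not_dvd_index).pow_left k) ?_ ?_)
        · rw [← hk]; exact Subgroup.relIndex_dvd_card _ _
        · have hr : A = (⊤ : Subgroup N).map ((QuotientGroup.mk' C).comp N.subtype) := by
            rw [← Subgroup.map_map, ← MonoidHom.range_eq_map, Subgroup.range_subtype]
            exact (map_comap_eq_self_of_surjective (QuotientGroup.mk'_surjective C) A).symm
          conv_lhs => rw [hr]
          rw [Subgroup.relIndex_map_map, ← Subgroup.relIndex_top_right]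
          simp only [top_sup_eq]
          exact Subgroup.relIndex_dvd_of_le_left _ le_sup_left
    have hq' : QuotientGroup.mk' C ((⟨h, hha⟩ : stabilizer G a)⁻¹ * g * ⟨h, hha⟩) ∈ A := hg'
    rw [← himg] at hq'
    obtain ⟨x, hx, hxe⟩ := hq'
    have hd := QuotientGroup.eq.1 (show ((x : stabilizer G a) : stabilizer G a ⧸ C) = _ from hxe)
    rw [mem_subgroupOf, mem_uCent] at hd
    have h1 := hcom (x : stabilizer G a) ⟨x, hx, rfl⟩
    have h2 : v * (h⁻¹ * (g : G) * h) = h⁻¹ * (g : G) * h * v := by
      have h3 := hd.2 v hv hva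
      push_cast at h3
      set xx := ((x : stabilizer G a) : G)
      set w := h⁻¹ * (g : G) * h
      calc v * w = v * (xx * (xx⁻¹ * w)) := by group
        _ = v * xx * (xx⁻¹ * w) := by group
        _ = xx * (v * (xx⁻¹ * w)) := by rw [← h1]; group
        _ = _ := by rw [h3]; group
    rw [← hh]
    calc h * v * h⁻¹ * (g : G) = h * (v * (h⁻¹ * (g : G) * h)) * h⁻¹ := by group
      _ = h * (h⁻¹ * (g : G) * h * v) * h⁻¹ := by rw [h2]
      _ = _ := by group
  have hTodd : l ≠ 2 → Odd (Nat.card T') := fun hl2 => by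
    obtain ⟨k, hk⟩ := IsPGroup.iff_card.1 (T.isPGroup'.map N.subtype)
    rw [hk]; exact (hl.odd_of_ne_two hl2).pow
  haveI : Fact (Nat.Prime 2) := ⟨Nat.prime_two⟩
  have hl2 : l ≠ 2 := by
    rintro rfl
    -- a 2-group centralises an involution
    by_cases htriv : T' = ⊥
    · by_cases hex : ∃ v : G, orderOf v = 2 ∧ v • a = a
      · obtain ⟨v, hv, hva⟩ := hex
        refine hnofix v hv hva fun x hx => ?_
        rw [htriv, Subgroup.mem_bot] at hx
        rw [hx, Subgroup.coe_one, one_mul, mul_one]
      · push Not at hex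
        exact hA1 ((Subgroup.eq_bot_iff_forall A).2 fun q hq => by
          obtain ⟨g, rfl⟩ := QuotientGroup.mk_surjective q
          rw [QuotientGroup.eq_one_iff, mem_subgroupOf, mem_uCent]
          exact ⟨g.2, fun t ht hta => absurd hta (hex t ht)⟩)
    · haveI : Nontrivial T' := (Subgroup.nontrivial_iff_ne_bot _).2 htriv
      have hT2 : IsPGroup 2 T' := T.isPGroup'.map _
      haveI := hT2.center_nontrivial
      obtain ⟨z, hz⟩ := exists_prime_orderOf_dvd_card' (G := Subgroup.center T') (p := 2) (by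
        rcases (hT2.to_subgroup (Subgroup.center T')).card_eq_or_dvd with h | h
        · exact absurd h Finite.one_lt_card.ne'
        · exact h)
      refine hnofix (((z : T') : stabilizer G a) : G) (by
        rw [Subgroup.orderOf_coe, Subgroup.orderOf_coe, Subgroup.orderOf_coe, hz]) ((z : T') : stabilizer G a).2
        fun x hx => ?_
      exact congrArg (fun y : T' => ((y : stabilizer G a) : G)) (Subgroup.mem_center_iff.1 z.2 ⟨x, hx⟩)
  -- the normaliser of `T'` has odd order
  have hNodd : Odd (Nat.card (normalizer (T' : Set (stabilizer G a)))) := by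
    rw [← Nat.not_even_iff_odd]
    intro hev
    obtain ⟨w, hw⟩ := exists_prime_orderOf_dvd_card' (p := 2) hev.two_dvd
    rw [← Subgroup.orderOf_coe, ← Subgroup.orderOf_coe] at hw
    set v := ((w : stabilizer G a) : G)
    have hva : v • a = a := (w : stabilizer G a).2
    refine hnofix v hw hva fun x hx => ?_
    have hxx : (x : G) • a = a := x.2
    have hgv : orderOf ((x : G) * v * (x : G)⁻¹) = 2 := (Invol.order_conj _ v).trans hw
    have hgva : ((x : G) * v * (x : G)⁻¹) • a = a := by
      rw [mul_smul, inv_smul_eq_iff.2 hxx.symm, mul_smul, hva, hxx]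
    have hcm := hp.comm _ _ hw hgv hva hgva
    have hmem : ((w : stabilizer G a) * x * (w : stabilizer G a)⁻¹) * x⁻¹ ∈ T' :=
      mul_mem ((mem_normalizer_iff.1 w.2 x).1 hx) (inv_mem hx)
    have he : v * ((x : G) * v * (x : G)⁻¹) =
        ((((w : stabilizer G a) * x * (w : stabilizer G a)⁻¹) * x⁻¹ : stabilizer G a) : G) := by
      show _ = v * (x : G) * v⁻¹ * (x : G)⁻¹
      rw [Invol.inv_self hw]; group
    have hdvd : orderOf (v * ((x : G) * v * (x : G)⁻¹)) ∣ Nat.card T' := by
      rw [he, Subgroup.orderOf_coe]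
      exact Subgroup.orderOf_dvd_natCard _ hmem
    have hsq : (v * ((x : G) * v * (x : G)⁻¹)) ^ 2 = 1 := by
      rw [pow_two]
      calc v * ((x : G) * v * (x : G)⁻¹) * (v * ((x : G) * v * (x : G)⁻¹))
          = v * (((x : G) * v * (x : G)⁻¹) * v) * ((x : G) * v * (x : G)⁻¹) := by group
        _ = v * v * (((x : G) * v * (x : G)⁻¹) * ((x : G) * v * (x : G)⁻¹)) := by rw [← hcm]; group
        _ = 1 := by rw [Invol.mul_self hw, Invol.mul_self hgv, one_mul]
    have h1 : v * ((x : G) * v * (x : G)⁻¹) = 1 := orderOf_eq_one_iff.1 (Nat.eq_one_of_dvd_coprimes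
      (Nat.coprime_two_left.2 (hTodd hl2)) (orderOf_dvd_of_pow_eq_one hsq) hdvd)
    rw [mul_eq_one_iff_inv_eq, Invol.inv_self hw] at h1
    conv_rhs => rw [h1]
    group
  -- Frattini
  have htop : normalizer (T' : Set (stabilizer G a)) ⊔ N = ⊤ := T.normalizer_sup_eq_top
  rw [← Nat.not_even_iff_odd]
  intro hev
  have hidxN : Odd N.index := by
    rw [← relIndex_top_right, ← htop, relIndex_sup_right]
    exact hNodd.of_dvd_nat (Subgroup.relIndex_dvd_card _ _)
  have hAodd : Odd (Nat.card A) := by
    obtain ⟨k, hk⟩ := IsPGroup.iff_card.1 hAp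
    rw [hk]; exact (hl.odd_of_ne_two hl2).pow
  have hprod : C.index = Nat.card A * A.index := by
    rw [Subgroup.card_mul_index, Subgroup.index_eq_card]
  have hNA : N.index = A.index := Subgroup.index_comap_of_surjective _ (QuotientGroup.mk'_surjective C)
  rw [hprod, ← hNA] at hev
  exact Nat.not_even_iff_odd.2 (hAodd.mul hidxN) hev

end Cfsg.Agent.SERegular
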