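import Cfsg.Agent.Lib.SERegular.Main
import Cfsg.Agent.Lib.SERegular.Odd
import Cfsg.Agent.Lib.Involutions.SwapCount
import Cfsg.Prelude.Def_Involutions

/-!
# A strongly embedded subgroup with commuting involutions

Such a subgroup `H`, with core one, has a normal `2`-subgroup regular on the other cosets, provided
the centraliser of its involutions has odd index, as it has if `H` is soluble or a Sylow
`2`-subgroup of `H` centralises the involutions of `H`.
-/

set_option autoImplicit false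
set_option linter.unusedSectionVars false
set_option linter.style.haveILetI false

namespace Cfsg.Agent.SERegular

open MulAction Subgroup

universe u

variable {G : Type u} [Group G] [Finite G] {H : Subgroup G}

/-- The centraliser in `H` of its involutions. -/
def invCent (H : Subgroup G) : Subgroup G := H ⊓ centralizer {t : G | orderOf t = 2 ∧ t ∈ H}

theorem uCent_quotient (H : Subgroup G) : uCent G ((1 : G) : G ⧸ H) = invCent H := by
  have hst : stabilizer G ((1 : G) : G ⧸ H) = H := MulAction.stabilizer_quotient H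
  have hset : invAt G ((1 : G) : G ⧸ H) = {t : G | orderOf t = 2 ∧ t ∈ H} := by
    ext t
    exact ⟨fun h => ⟨h.1, hst.le h.2⟩, fun h => ⟨h.1, hst.ge h.2⟩⟩
  rw [uCent, invCent, hset, hst]

theorem relIndex_uCent (H : Subgroup G) :
    (uCent G ((1 : G) : G ⧸ H)).relIndex (stabilizer G ((1 : G) : G ⧸ H)) = (invCent H).relIndex H := by
  rw [uCent_quotient, MulAction.stabilizer_quotient]

theorem pre_of_se (hH : Cfsg.IsStronglyEmbedded H)
    (hcomm : ∀ s t : G, s ∈ H → t ∈ H → orderOf s = 2 → orderOf t = 2 → s * t = t * s) :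
    Pre G (G ⧸ H) ((1 : G) : G ⧸ H) := by
  have hst : stabilizer G ((1 : G) : G ⧸ H) = H := MulAction.stabilizer_quotient H
  refine ⟨fun t ht => ?_, fun s t hs ht hsa hta => hcomm s t (hst.le hsa) (hst.le hta) hs ht,
    fun s t hs ht hsa hta => ?_⟩
  · obtain ⟨z, hzH, hz⟩ := Invol.exists_invol hH.2.1
    obtain ⟨g, hg⟩ := isConj_iff.1 (Invol.se_isConj hH hz ht)
    refine ⟨g • ((1 : G) : G ⧸ H), ?_, fun y hy => Invol.se_fix_unique hH ht hy ?_⟩ <;>
    · show t • (g • ((1 : G) : G ⧸ H)) = g • ((1 : G) : G ⧸ H)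
      rw [← hg, mul_smul, inv_smul_smul, mul_smul]
      exact congrArg (g • ·) (hst.ge hzH)
  · obtain ⟨g, hg⟩ := isConj_iff.1 (Invol.se_isConj hH hs ht)
    exact ⟨g, hst.ge (Invol.se_mem_of_conj hH hs (hst.le hsa) (hg ▸ hst.le hta)), hg⟩

/-- The hypotheses from a strongly embedded subgroup. -/
theorem cfg_of_se (hH : Cfsg.IsStronglyEmbedded H)
    (hcomm : ∀ s t : G, s ∈ H → t ∈ H → orderOf s = 2 → orderOf t = 2 → s * t = t * s)
    (h2 : ∃ s t : G, s ∈ H ∧ t ∈ H ∧ orderOf s = 2 ∧ orderOf t = 2 ∧ s ≠ t)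
    (hodd : Odd ((invCent H).relIndex H)) : Cfg G (G ⧸ H) ((1 : G) : G ⧸ H) := by
  have hst : stabilizer G ((1 : G) : G ⧸ H) = H := MulAction.stabilizer_quotient H
  have hp := pre_of_se hH hcomm
  obtain ⟨s, t, hsH, htH, hs, ht, hne⟩ := h2
  exact ⟨inferInstance, hp.inv_fix, hp.comm, ⟨s, t, hs, ht, hst.ge hsH, hst.ge htH, hne⟩,
    by rw [relIndex_uCent]; exact hodd⟩

/-- If `H` is soluble the centraliser of its involutions has odd index. -/
theorem odd_of_solvable (hH : Cfsg.IsStronglyEmbedded H)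
    (hcomm : ∀ s t : G, s ∈ H → t ∈ H → orderOf s = 2 → orderOf t = 2 → s * t = t * s)
    (hsol : Group.IsSolvable H) : Odd ((invCent H).relIndex H) := by
  rw [← relIndex_uCent]
  refine (pre_of_se hH hcomm).odd_of_solvable ?_
  rw [MulAction.stabilizer_quotient]
  exact hsol

/-- If a Sylow `2`-subgroup of `H` centralises the involutions of `H`, their centraliser has odd index. -/
theorem odd_of_sylow (S : Sylow 2 H)
    (hS : ∀ x ∈ (S : Subgroup H), ∀ t : G, orderOf t = 2 → t ∈ H → t * (x : G) = (x : G) * t) :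
    Odd ((invCent H).relIndex H) := by
  haveI : Fact (Nat.Prime 2) := ⟨Nat.prime_two⟩
  have hle : (S : Subgroup H) ≤ (invCent H).subgroupOf H := fun x hx => by
    rw [mem_subgroupOf]
    exact ⟨x.2, mem_centralizer_iff.2 fun t ht => hS x hx t ht.1 ht.2⟩
  rw [← Nat.not_even_iff_odd, even_iff_two_dvd]
  exact fun h => S.not_dvd_index (dvd_trans h (Subgroup.index_dvd_of_le hle))

/-- A normal `2`-subgroup regular on the other cosets. -/
theorem exists_regular_of_se (hH : Cfsg.IsStronglyEmbedded H) (hcore : H.normalCore = ⊥)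
    (hcomm : ∀ s t : G, s ∈ H → t ∈ H → orderOf s = 2 → orderOf t = 2 → s * t = t * s)
    (h2 : ∃ s t : G, s ∈ H ∧ t ∈ H ∧ orderOf s = 2 ∧ orderOf t = 2 ∧ s ≠ t)
    (hodd : Odd ((invCent H).relIndex H)) :
    ∃ Q : Subgroup G, Q ≤ H ∧ (Q.subgroupOf H).Normal ∧ IsPGroup 2 Q ∧
      (∀ g₁ g₂ : G, g₁ ∉ H → g₂ ∉ H → ∃ u ∈ Q, g₂⁻¹ * (u * g₁) ∈ H) ∧
      (∀ g : G, g ∉ H → ∀ u ∈ Q, g⁻¹ * (u * g) ∈ H → u = 1) := by
  classical
  have hst : stabilizer G ((1 : G) : G ⧸ H) = H := MulAction.stabilizer_quotient H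
  have hc := cfg_of_se hH hcomm h2 hodd
  haveI : FaithfulSMul G (G ⧸ H) := by
    refine ⟨fun {g g'} h => ?_⟩
    have hker : g'⁻¹ * g ∈ (MulAction.toPermHom G (G ⧸ H)).ker := by
      rw [MonoidHom.mem_ker]
      refine Equiv.ext fun x => ?_
      show (g'⁻¹ * g) • x = x
      rw [mul_smul, h x, inv_smul_smul]
    rw [← Subgroup.normalCore_eq_ker, hcore, Subgroup.mem_bot, inv_mul_eq_one] at hker
    exact hker.symm
  obtain ⟨g₀, hg₀⟩ : ∃ g : G, g ∉ H := by
    by_contra h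
    push Not at h
    exact hH.1 (eq_top_iff.2 fun g _ => h g)
  have hne : ∀ {g : G}, g ∉ H → (g : G ⧸ H) ≠ ((1 : G) : G ⧸ H) := fun hg e => hg (by
    rw [QuotientGroup.eq, mul_one, inv_mem_iff] at e; exact e)
  obtain ⟨t, Q, hS, hQ2, -⟩ := exists_regular hc ⟨_, hne hg₀⟩
  have hQH : Q ≤ H := hS.le.trans hst.le
  refine ⟨Q, hQH, ⟨fun n hn g => ?_⟩, hQ2, fun g₁ g₂ hg₁ hg₂ => ?_, fun g hg u hu hmem => ?_⟩
  · rw [mem_subgroupOf] at hn ⊢
    push_cast
    exact hS.conj_mem g (hst.ge g.2) n hn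
  · obtain ⟨u₁, hu₁, e₁⟩ := RankOne.exists_q_smul hS (hne hg₁)
    obtain ⟨u₂, hu₂, e₂⟩ := RankOne.exists_q_smul hS (hne hg₂)
    refine ⟨u₂ * u₁⁻¹, mul_mem hu₂ (inv_mem hu₁), ?_⟩
    have h1 : (u₂ * u₁⁻¹) • ((g₁ : G) : G ⧸ H) = (g₂ : G ⧸ H) := by
      rw [← e₁, mul_smul, inv_smul_smul, e₂]
    rw [MulAction.Quotient.smul_mk, smul_eq_mul, eq_comm, QuotientGroup.eq] at h1
    exact h1
  · by_contra hu1
    have hfix : u • (g : G ⧸ H) = (g : G ⧸ H) := by
      rw [MulAction.Quotient.smul_mk, smul_eq_mul, eq_comm, QuotientGroup.eq]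
      exact hmem
    exact hne hg (RankOne.eq_a_of_fixed hS hu hu1 hfix)

end Cfsg.Agent.SERegular
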