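import Cfsg.Agent.Lib.Transfer.Hall
import Cfsg.Agent.Lib.OddChar.OddTheorem

/-!
# A normal complement of a Hall subgroup controlling fusion up to 2-elements

If `X` is a Hall subgroup of odd order of `M` and conjugation of elements of prime power order of `X` into `X`
is induced, up to 2-elements centralising them, by `X`, then `X` has a normal complement.
-/

set_option autoImplicit false
set_option linter.unusedSectionVars false
set_option linter.style.haveILetI false

open scoped commutatorElement IsMulCommutative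

namespace Cfsg.Agent.SERegular

universe u

/-- One step: a proper normal subgroup supplementing `X` and containing all 2-elements. -/
theorem exists_step {M : Type u} [Group M] [Finite M] (X : Subgroup M) (hX : Odd (Nat.card X))
    (hX1 : X ≠ ⊥) (hHall : Nat.Coprime (Nat.card X) X.index)
    (hctrl : ∀ x, x ∈ X → (∃ p k : ℕ, p.Prime ∧ orderOf x = p ^ k) → x ≠ 1 → ∀ m : M, m * x * m⁻¹ ∈ X →
      ∃ k : M, IsPGroup 2 (Subgroup.zpowers k) ∧ k * x = x * k ∧ m * k ∈ X) :
    ∃ N : Subgroup M, N.Normal ∧ N ≠ ⊤ ∧ N ⊔ X = ⊤ ∧ ∀ k : M, IsPGroup 2 (Subgroup.zpowers k) → k ∈ N := by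
  classical
  haveI : Group.IsSolvable X := OddChar.oddSolvable X hX
  haveI : Nontrivial X := (Subgroup.nontrivial_iff_ne_bot X).2 hX1
  set X₁ := commutator X with hX₁
  have hne : X₁.index ≠ 1 := fun e =>
    (Group.IsSolvable.commutator_lt_top_of_nontrivial X).ne (Subgroup.index_eq_one.1 e)
  obtain ⟨l, hl, hdvd⟩ := Nat.exists_prime_and_dvd hne
  haveI := Fact.mk hl
  obtain ⟨LX⟩ : Nonempty (Sylow l X) := inferInstance
  set L : Subgroup M := (LX : Subgroup X).map X.subtype with hL
  have hLX : L ≤ X := Subgroup.map_subtype_le _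
  have hLcard : Nat.card L = l ^ (Nat.card X).factorization l := by
    rw [hL, Subgroup.card_map_of_injective X.subtype_injective, LX.card_eq_multiplicity]
  have hlX : l ∣ Nat.card X := hdvd.trans X₁.index_dvd_card
  have hlidx : ¬ l ∣ X.index := fun h => hl.not_dvd_one (hHall ▸ Nat.dvd_gcd hlX h)
  have hLidx : Nat.Coprime (Nat.card L) L.index := by
    rw [hLcard]
    refine Nat.Coprime.pow_left _ ((hl.coprime_iff_not_dvd).2 fun h => ?_)
    rw [← Subgroup.relIndex_mul_index hLX] at h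
    rcases hl.dvd_mul.1 h with h | h
    · rw [show L.relIndex X = (LX : Subgroup X).index by
        rw [hL, Subgroup.relIndex, Subgroup.subgroupOf,
          Subgroup.comap_map_eq_self_of_injective X.subtype_injective]] at h
      exact Sylow.not_dvd_index LX h
    · exact hlidx h
  have hcop := TransferHall.coprime_of_hall L hLidx
  -- the focal subgroup lies in the derived group of X
  have hfocal : L.focalSubgroup ≤ X₁.map X.subtype := by
    refine (Subgroup.closure_le _).2 ?_
    rintro g ⟨hgL, x, hxL, u, rfl⟩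
    by_cases hx : x = 1
    · rw [hx, commutatorElement_one_left]; exact one_mem _
    have hmem : u * x⁻¹ * u⁻¹ ∈ X := by
      have := mul_mem (inv_mem (hLX hxL)) (hLX hgL)
      simpa [commutatorElement_def, mul_assoc] using this
    have hpp : ∃ p k : ℕ, p.Prime ∧ orderOf x⁻¹ = p ^ k := by
      obtain ⟨j, -, hj⟩ := (Nat.dvd_prime_pow hl).1 (hLcard ▸ Subgroup.orderOf_dvd_natCard L hxL)
      exact ⟨l, j, hl, by rw [orderOf_inv, hj]⟩
    obtain ⟨k, -, hk, hmk⟩ := hctrl x⁻¹ (inv_mem (hLX hxL)) hpp (inv_ne_one.2 hx) u hmem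
    refine ⟨⁅(⟨x, hLX hxL⟩ : X), ⟨u * k, hmk⟩⁆, Subgroup.commutator_mem_commutator
      (Subgroup.mem_top _) (Subgroup.mem_top _), ?_⟩
    rw [map_commutatorElement, Subgroup.coe_subtype, commutatorElement_def, commutatorElement_def]
    calc x * (u * k) * x⁻¹ * (u * k)⁻¹ = x * u * (k * x⁻¹) * k⁻¹ * u⁻¹ := by group
      _ = x * u * x⁻¹ * u⁻¹ := by rw [hk]; group
  set K := L.transferFocal.ker with hK
  set N := K ⊔ (L ⊓ X₁.map X.subtype) with hN
  have hKsup : K ⊔ L = ⊤ := TransferHall.ker_transferFocal_sup L hcop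
  have hKinf : K ⊓ L = L.focalSubgroup := TransferHall.ker_transferFocal_inf L hcop
  have hKcomm : commutator M ≤ K := Abelianization.commutator_subset_ker L.transferFocal
  haveI hNn : N.Normal := ⟨fun n hn g => by
    have h1 : g * n * g⁻¹ * n⁻¹ ∈ N := Subgroup.mem_sup_left (hKcomm (by
      have := Subgroup.commutator_mem_commutator (Subgroup.mem_top g) (Subgroup.mem_top n)
      rwa [commutatorElement_def] at this))
    simpa using mul_mem h1 hn⟩
  refine ⟨N, hNn, fun htop => ?_, ?_, fun k hk => Subgroup.mem_sup_left ?_⟩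
  · -- L is not in X₁
    have hLX₁ : L ≤ X₁.map X.subtype := fun y hy => by
      have hyN : y ∈ N := htop ▸ Subgroup.mem_top y
      rw [hN, ← SetLike.mem_coe, Subgroup.normal_mul] at hyN
      obtain ⟨c, hc, d, hd, rfl⟩ := Set.mem_mul.1 hyN
      refine mul_mem (hfocal (hKinf ▸ Subgroup.mem_inf.2 ⟨hc, ?_⟩)) (Subgroup.mem_inf.1 hd).2
      simpa using mul_mem hy (inv_mem (Subgroup.mem_inf.1 hd).1)
    have h1 : (LX : Subgroup X) ≤ X₁ := by
      rwa [hL, Subgroup.map_le_map_iff_of_injective X.subtype_injective] at hLX₁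
    exact Sylow.not_dvd_index LX (hdvd.trans (Subgroup.index_dvd_of_le h1))
  · exact eq_top_iff.2 (hKsup ▸ sup_le (le_sup_left.trans le_sup_left) (hLX.trans le_sup_right))
  · rw [hK, MonoidHom.mem_ker]
    obtain ⟨j, hj⟩ := hk ⟨k, Subgroup.mem_zpowers k⟩
    have hj' : k ^ 2 ^ j = 1 := congrArg Subtype.val hj
    have h1 : orderOf (L.transferFocal k) ∣ 2 ^ j :=
      orderOf_dvd_of_pow_eq_one (by rw [← map_pow, hj', map_one])
    have hlodd : Odd l := hX.of_dvd_nat hlX
    have h2 : orderOf (L.transferFocal k) ∣ Nat.card L :=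
      (orderOf_dvd_natCard _).trans (Subgroup.card_quotient_dvd_card _)
    rw [hLcard] at h2
    exact orderOf_eq_one_iff.1 (Nat.eq_one_of_dvd_coprimes
      ((Nat.Coprime.pow_left _ (Nat.coprime_two_left.2 hlodd)).pow_right _) h1 h2)

/-- A Hall subgroup of odd order controlling fusion up to 2-elements has a normal complement. -/
theorem exists_complement {M : Type u} [Group M] [Finite M] (X : Subgroup M) (hX : Odd (Nat.card X))
    (hHall : Nat.Coprime (Nat.card X) X.index)
    (hctrl : ∀ x, x ∈ X → (∃ p k : ℕ, p.Prime ∧ orderOf x = p ^ k) → x ≠ 1 → ∀ m : M, m * x * m⁻¹ ∈ X →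
      ∃ k : M, IsPGroup 2 (Subgroup.zpowers k) ∧ k * x = x * k ∧ m * k ∈ X) :
    ∃ Q : Subgroup M, Q.Normal ∧ Q ⊓ X = ⊥ ∧ Q ⊔ X = ⊤ ∧ Nat.Coprime (Nat.card Q) (Nat.card X) := by
  classical
  induction hn : Nat.card M using Nat.strong_induction_on generalizing M with
  | _ n ih =>
  subst hn
  by_cases hX1 : X = ⊥
  · subst hX1
    exact ⟨⊤, inferInstance, inf_bot_eq _, sup_bot_eq _, by rw [Subgroup.card_bot]; exact Nat.coprime_one_right _⟩
  obtain ⟨N, hNn, hNtop, hNX, h2N⟩ := exists_step X hX hX1 hHall hctrl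
  have hlt : Nat.card N < Nat.card M :=
    lt_of_le_of_ne N.card_le_card_group fun e => hNtop (Subgroup.eq_top_of_card_eq N e)
  set Y := X.subgroupOf N with hY
  have hYX : Nat.card Y ∣ Nat.card X := by
    rw [hY, Subgroup.subgroupOf]
    exact Subgroup.card_comap_dvd_of_injective X N.subtype N.subtype_injective
  have hidx : Y.index = X.index := by
    show X.relIndex N = X.index
    have h1 : N.relIndex X = N.index := by
      rw [← Subgroup.relIndex_sup_left (H := X) (K := N), hNX, Subgroup.relIndex_top_right]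
    have h2 := Subgroup.inf_relIndex_right N X
    have h3 : (N ⊓ X).relIndex N * N.index = (N ⊓ X).index := Subgroup.relIndex_mul_index inf_le_left
    have h4 : (N ⊓ X).relIndex X * X.index = (N ⊓ X).index := Subgroup.relIndex_mul_index inf_le_right
    rw [Subgroup.inf_relIndex_left, ← h4, h2, h1, mul_comm N.index] at h3
    exact Nat.eq_of_mul_eq_mul_right (Nat.pos_of_ne_zero N.index_ne_zero_of_finite) h3
  obtain ⟨Q', hQn, hQinf, hQsup, hQcop⟩ := ih _ hlt Y (hX.of_dvd_nat hYX)
    (hidx ▸ hHall.coprime_dvd_left hYX) (fun x hx hpp hx1 m hm => by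
      obtain ⟨k, hk2, hkx, hmk⟩ := hctrl x hx (by rwa [Subgroup.orderOf_coe])
        (fun e => hx1 (Subtype.ext e)) m hm
      refine ⟨⟨k, h2N k hk2⟩, ?_, Subtype.ext hkx, hmk⟩
      haveI : Fact (Nat.Prime 2) := ⟨Nat.prime_two⟩
      obtain ⟨j, hj⟩ := IsPGroup.iff_card.1 hk2
      exact IsPGroup.of_card (n := j) (by rw [Nat.card_zpowers, Subgroup.orderOf_mk, ← Nat.card_zpowers, hj])) rfl
  have hQidx : Q'.index = Nat.card Y := by
    refine Subgroup.IsComplement'.index_eq_card (Subgroup.isComplement'_of_disjoint_and_mul_eq_univ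
      (disjoint_iff.2 (inf_comm Y Q' ▸ hQinf)) ?_)
    rw [← Subgroup.mul_normal, sup_comm, hQsup, Subgroup.coe_top]
  have hchar : ∀ g : M, ∀ q ∈ Q', (⟨g * (q : M) * g⁻¹, hNn.conj_mem _ q.2 g⟩ : N) ∈ Q' := by
    intro g q hq
    haveI := hQn
    rw [← QuotientGroup.eq_one_iff (N := Q'), ← orderOf_eq_one_iff]
    have h1 : orderOf ((⟨g * (q : M) * g⁻¹, hNn.conj_mem _ q.2 g⟩ : N) : N ⧸ Q') ∣ Nat.card Q' := by
      refine (orderOf_map_dvd (QuotientGroup.mk' Q') _).trans ?_
      rw [Subgroup.orderOf_mk, show orderOf (g * (q : M) * g⁻¹) = orderOf (q : M) from (MulAut.conj g).orderOf_eq _,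
        Subgroup.orderOf_coe]
      exact Subgroup.orderOf_dvd_natCard _ hq
    exact Nat.eq_one_of_dvd_coprimes hQcop h1
      (hQidx ▸ (orderOf_dvd_natCard _).trans (Subgroup.index_eq_card Q').symm.dvd)
  refine ⟨Q'.map N.subtype, ⟨?_⟩, ?_, ?_, ?_⟩
  · rintro _ ⟨q, hq, rfl⟩ g
    exact ⟨_, hchar g q hq, rfl⟩
  · rw [Subgroup.eq_bot_iff_forall]
    rintro _ ⟨⟨q, hq, rfl⟩, hqX⟩
    have : q ∈ Q' ⊓ Y := ⟨hq, hqX⟩
    rw [hQinf, Subgroup.mem_bot] at this
    rw [this, map_one]
  · rw [eq_top_iff, ← hNX]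
    refine sup_le ?_ le_sup_right
    intro m hm
    have h1 : (⟨m, hm⟩ : N) ∈ Q' ⊔ Y := hQsup ▸ Subgroup.mem_top _
    have h2 := Subgroup.mem_map_of_mem N.subtype h1
    rw [Subgroup.map_sup] at h2
    exact sup_le_sup le_rfl (Subgroup.map_comap_le _ _) h2
  · rw [Subgroup.card_map_of_injective N.subtype_injective]
    have hQX : Nat.card Q' = X.index := by
      have h1 := Subgroup.card_mul_index Q'
      have h2 := Subgroup.card_mul_index Y
      rw [hQidx] at h1
      rw [hidx, ← h1, mul_comm (Nat.card Y)] at h2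
      exact (Nat.eq_of_mul_eq_mul_right Nat.card_pos h2).symm
    rw [hQX]
    exact hHall.symm

end Cfsg.Agent.SERegular
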