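import Cfsg.Agent.Lib.SERegular.Basic

/-!
# Subgroups and faithful quotients
-/

set_option autoImplicit false
set_option linter.unusedSectionVars false
set_option linter.style.haveILetI false

namespace Cfsg.Agent.SERegular

open MulAction Subgroup

universe u v

variable {G : Type u} {Ω : Type v} [Group G] [MulAction G Ω] {a : Ω}

/-- The points at which a subgroup has an involution. -/
def goodPts (E : Subgroup G) : SubMulAction E Ω where
  carrier := {c | ∃ t ∈ E, orderOf t = 2 ∧ t • c = c}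
  smul_mem' := fun e {c} hc => by
    rw [Set.mem_ofPred_eq] at hc ⊢
    obtain ⟨t, htE, ht, htc⟩ := hc
    refine ⟨e * t * (e : G)⁻¹, mul_mem (mul_mem e.2 htE) (inv_mem e.2), (Invol.order_conj _ _).trans ht, ?_⟩
    show ((e : G) * t * (e : G)⁻¹) • ((e : G) • c) = (e : G) • c
    rw [mul_smul, inv_smul_smul, mul_smul, htc]

theorem mem_goodPts {E : Subgroup G} {c : Ω} : c ∈ goodPts (Ω := Ω) E ↔ ∃ t ∈ E, orderOf t = 2 ∧ t • c = c :=
  Iff.rfl

theorem smul_coe {E : Subgroup G} (e : E) (p : goodPts (Ω := Ω) E) :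
    ((e • p : goodPts (Ω := Ω) E) : Ω) = (e : G) • (p : Ω) := rfl

theorem uCent_normal [Finite G] (hc : Cfg G Ω a) : ((uCent G a).subgroupOf (stabilizer G a)).Normal := by
  refine ⟨fun n hn g => ?_⟩
  rw [mem_subgroupOf, mem_uCent] at hn ⊢
  refine ⟨(g * n * g⁻¹ : stabilizer G a).2, fun t ht hta => ?_⟩
  have h1 := hn.2 ((g : G)⁻¹ * t * (g : G)⁻¹⁻¹) ((Invol.order_conj _ _).trans ht)
    (by rw [mul_smul, mul_smul, inv_inv, g.2, hta, inv_smul_eq_iff, g.2])
  push_cast
  calc t * ((g : G) * n * (g : G)⁻¹) = g * ((g : G)⁻¹ * t * (g : G)⁻¹⁻¹ * n) * (g : G)⁻¹ := by group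
    _ = g * (n * ((g : G)⁻¹ * t * (g : G)⁻¹⁻¹)) * (g : G)⁻¹ := by rw [h1]
    _ = _ := by group

/-- A subgroup with two involutions at `a` inherits the hypotheses on the points where it has involutions. -/
theorem Cfg.sub [Finite G] (hc : Cfg G Ω a) (E : Subgroup G)
    (h4 : ∃ s t : G, s ∈ E ∧ t ∈ E ∧ orderOf s = 2 ∧ orderOf t = 2 ∧ s • a = a ∧ t • a = a ∧ s ≠ t) :
    ∃ ha : a ∈ goodPts (Ω := Ω) E, Cfg E (goodPts (Ω := Ω) E) ⟨a, ha⟩ := by
  obtain ⟨s, t, hs, htE, hso, hto, hsa, hta, hne⟩ := h4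
  have ha : a ∈ goodPts (Ω := Ω) E := ⟨s, hs, hso, hsa⟩
  refine ⟨ha, ?_, ?_, ?_, ?_, ?_⟩
  · refine ⟨fun p r => ?_⟩
    by_cases h : (p : Ω) = r
    · exact ⟨1, by rw [one_smul]; exact Subtype.ext h⟩
    obtain ⟨u, huE, hu, huc⟩ := mem_goodPts.1 p.2
    obtain ⟨w, hwE, hw, hwd⟩ := mem_goodPts.1 r.2
    obtain ⟨k, hk, hkc⟩ := hc.exists_move hu hw huc hwd h
    have hkE : k ∈ E := (Subgroup.closure_le E).2
      (Set.insert_subset_iff.2 ⟨huE, Set.singleton_subset_iff.2 hwE⟩) hk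
    exact ⟨⟨k, hkE⟩, Subtype.ext hkc⟩
  · intro w hw
    have hw' : orderOf (w : G) = 2 := by rwa [Subgroup.orderOf_coe]
    obtain ⟨c, hcw, -⟩ := hc.inv_fix _ hw'
    exact ⟨⟨c, (w : G), w.2, hw', hcw⟩, Subtype.ext hcw,
      fun y hy => Subtype.ext (hc.fix_eq hw' (congrArg Subtype.val hy) hcw)⟩
  · intro x y hx hy hxa hya
    exact Subtype.ext (hc.comm _ _ (by rwa [Subgroup.orderOf_coe]) (by rwa [Subgroup.orderOf_coe])
      (congrArg Subtype.val hxa) (congrArg Subtype.val hya))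
  · exact ⟨⟨s, hs⟩, ⟨t, htE⟩, by rw [Subgroup.orderOf_mk, hso], by rw [Subgroup.orderOf_mk, hto],
      Subtype.ext hsa, Subtype.ext hta, fun e => hne (congrArg Subtype.val e)⟩
  · have hst : stabilizer E (⟨a, ha⟩ : goodPts (Ω := Ω) E) = (stabilizer G a).subgroupOf E := by
      ext e
      exact ⟨fun h => congrArg Subtype.val h, fun h => Subtype.ext h⟩
    have hle : (uCent G a).subgroupOf E ≤ uCent E (⟨a, ha⟩ : goodPts (Ω := Ω) E) := fun e he => by
      obtain ⟨h1, h2⟩ := mem_uCent.1 (mem_subgroupOf.1 he)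
      exact mem_uCent.2 ⟨Subtype.ext h1, fun w hw hwa => Subtype.ext
        (h2 w (by rwa [Subgroup.orderOf_coe]) (congrArg Subtype.val hwa))⟩
    refine Odd.of_dvd_nat hc.odd_cent (dvd_trans (Subgroup.relIndex_dvd_of_le_left _ hle) ?_)
    rw [hst]
    have := uCent_normal hc
    have h1 : ((uCent G a).subgroupOf E).relIndex ((stabilizer G a).subgroupOf E) =
        (uCent G a).relIndex (stabilizer G a ⊓ E) := by
      rw [show (stabilizer G a).subgroupOf E = (stabilizer G a ⊓ E).subgroupOf E from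
        (Subgroup.inf_subgroupOf_right _ _).symm, Subgroup.relIndex_subgroupOf inf_le_right]
    have h2 : ((uCent G a).subgroupOf (stabilizer G a)).relIndex
        ((stabilizer G a ⊓ E).subgroupOf (stabilizer G a)) = (uCent G a).relIndex (stabilizer G a ⊓ E) :=
      Subgroup.relIndex_subgroupOf inf_le_left
    rw [h1, ← h2]
    exact Subgroup.relIndex_dvd_index_of_normal _ _

/-- The action of the faithful quotient. -/
@[reducible]
def quotAction (G : Type u) (Ω : Type v) [Group G] [MulAction G Ω] :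
    MulAction (G ⧸ (toPermHom G Ω).ker) Ω :=
  MulAction.compHom Ω (QuotientGroup.kerLift (toPermHom G Ω))

theorem quotAction_faithful (G : Type u) (Ω : Type v) [Group G] [MulAction G Ω] :
    @FaithfulSMul (G ⧸ (toPermHom G Ω).ker) Ω (quotAction G Ω).toSMul := by
  letI := quotAction G Ω
  exact ⟨fun {x y} h => QuotientGroup.kerLift_injective _ (Equiv.ext h)⟩

theorem Cfg.ker_odd [Finite G] (hc : Cfg G Ω a) (hne : ∃ c : Ω, c ≠ a) :
    Odd (Nat.card (toPermHom G Ω).ker) := by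
  rw [← Nat.not_even_iff_odd]
  intro hev
  obtain ⟨⟨t, htk⟩, ht⟩ := exists_prime_orderOf_dvd_card' (p := 2) hev.two_dvd
  rw [Subgroup.orderOf_mk] at ht
  obtain ⟨c, hca⟩ := hne
  have h : ∀ x : Ω, t • x = x := fun x => Equiv.congr_fun (MonoidHom.mem_ker.1 htk) x
  exact hca (hc.fix_eq ht (h c) (h a))

theorem Cfg.quot [Finite G] (hc : Cfg G Ω a) (hne : ∃ c : Ω, c ≠ a) :
    @Cfg (G ⧸ (toPermHom G Ω).ker) Ω _ (quotAction G Ω) a := by
  letI := quotAction G Ω
  set K := (toPermHom G Ω).ker with hK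
  have hodd := hc.ker_odd hne
  have hlift : ∀ q : G ⧸ K, orderOf q = 2 → ∃ t : G, orderOf t = 2 ∧ (t : G ⧸ K) = q := by
    intro q hq
    obtain ⟨g, rfl⟩ := QuotientGroup.mk_surjective q
    obtain ⟨k, m, hm, hkm⟩ := Nat.exists_eq_two_pow_mul_odd (orderOf_pos g).ne'
    have himg : ((g ^ m : G) : G ⧸ K) = (g : G ⧸ K) := by
      rw [QuotientGroup.mk_pow, ← pow_mod_orderOf, hq, Nat.odd_iff.1 hm, pow_one]
    refine ⟨g ^ m, Invol.order_two_of_sq ?_ fun e => ?_, himg⟩
    · have hmem : (g ^ m) ^ 2 ∈ K := by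
        rw [← QuotientGroup.eq_one_iff, QuotientGroup.mk_pow, himg, ← hq, pow_orderOf_eq_one]
      have h1 : orderOf ((g ^ m) ^ 2) ∣ 2 ^ k := orderOf_dvd_of_pow_eq_one (by
        rw [← pow_mul, ← pow_mul, show m * (2 * 2 ^ k) = 2 ^ k * m * 2 by ring, ← hkm, pow_mul, pow_orderOf_eq_one, one_pow])
      have h2 : orderOf ((g ^ m) ^ 2) ∣ Nat.card K := Subgroup.orderOf_dvd_natCard _ hmem
      rw [← pow_two, ← orderOf_eq_one_iff]
      exact Nat.eq_one_of_dvd_coprimes ((Nat.coprime_two_left.2 hodd).pow_left k) h1 h2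
    · rw [e, QuotientGroup.mk_one] at himg
      rw [← himg, orderOf_one] at hq
      omega
  refine ⟨⟨fun x y => ?_⟩, ?_, ?_, ?_, ?_⟩
  · obtain ⟨g, hg⟩ := hc.pretrans.exists_smul_eq x y
    exact ⟨(g : G ⧸ K), hg⟩
  · intro q hq
    obtain ⟨t, ht, rfl⟩ := hlift q hq
    exact hc.inv_fix t ht
  · intro x y hx hy hxa hya
    obtain ⟨s, hs, rfl⟩ := hlift x hx
    obtain ⟨t, ht, rfl⟩ := hlift y hy
    exact congrArg (QuotientGroup.mk (s := K)) (hc.comm s t hs ht hxa hya)
  · obtain ⟨s, t, hs, ht, hsa, hta, hne'⟩ := hc.four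
    have key : ∀ {r : G}, orderOf r = 2 → orderOf (r : G ⧸ K) = 2 := by
      intro r hr
      refine Invol.order_two_of_sq ((congrArg (QuotientGroup.mk (s := K)) (Invol.mul_self hr)).trans
        (QuotientGroup.mk_one K)) fun e => ?_
      rw [QuotientGroup.eq_one_iff] at e
      have hd := Subgroup.orderOf_dvd_natCard _ e
      rw [hr] at hd
      exact Nat.not_even_iff_odd.2 hodd (even_iff_two_dvd.2 hd)
    refine ⟨s, t, key hs, key ht, hsa, hta, fun e => ?_⟩
    rw [QuotientGroup.eq] at e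
    rw [Invol.inv_self hs] at e
    have ho : orderOf (s * t) = 2 := Invol.order_two_of_sq
      (by
        calc s * t * (s * t) = s * (t * s) * t := by group
          _ = s * s * (t * t) := by rw [← hc.comm s t hs ht hsa hta]; group
          _ = 1 := by rw [Invol.mul_self hs, Invol.mul_self ht, one_mul])
      (fun e1 => hne' (by rw [mul_eq_one_iff_eq_inv, Invol.inv_self ht] at e1; exact e1))
    have hd := Subgroup.orderOf_dvd_natCard _ e
    rw [ho] at hd
    exact Nat.not_even_iff_odd.2 hodd (even_iff_two_dvd.2 hd)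
  · have hst : stabilizer (G ⧸ K) a = (stabilizer G a).map (QuotientGroup.mk' K) := by
      ext q
      constructor
      · intro hq
        obtain ⟨g, rfl⟩ := QuotientGroup.mk_surjective q
        exact ⟨g, hq, rfl⟩
      · rintro ⟨g, hg, rfl⟩
        exact hg
    have hKle : K ≤ stabilizer G a := fun k hk => Equiv.congr_fun (MonoidHom.mem_ker.1 hk) a
    have hle : (uCent G a).map (QuotientGroup.mk' K) ≤ uCent (G ⧸ K) a := by
      rintro _ ⟨g, hg, rfl⟩
      obtain ⟨h1, h2⟩ := mem_uCent.1 hg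
      refine mem_uCent.2 ⟨h1, fun q hq hqa => ?_⟩
      obtain ⟨t, ht, rfl⟩ := hlift q hq
      exact congrArg (QuotientGroup.mk (s := K)) (h2 t ht hqa)
    refine Odd.of_dvd_nat hc.odd_cent (dvd_trans (Subgroup.relIndex_dvd_of_le_left _ hle) ?_)
    rw [hst, Subgroup.relIndex_map_map, QuotientGroup.ker_mk', sup_eq_left.2 hKle]
    exact Subgroup.relIndex_dvd_of_le_left _ le_sup_left

/-- The statement on faithful actions gives transitivity for every action. -/
theorem twoTrans_of_stmt [Finite G] (hA : TwoTransStmt.{u, v}) (hc : Cfg G Ω a) : TwoTrans G a := by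
  intro b c hb hca
  letI := quotAction G Ω
  haveI := quotAction_faithful G Ω
  obtain ⟨q, hqa, hqb⟩ := hA a (hc.quot ⟨b, hb⟩) b c hb hca
  obtain ⟨g, rfl⟩ := QuotientGroup.mk_surjective q
  exact ⟨g, hqa, hqb⟩

end Cfsg.Agent.SERegular
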