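import Cfsg.Agent.Lib.Involutions.Basic
import Mathlib.GroupTheory.GroupAction.SubMulAction
import Mathlib.GroupTheory.GroupAction.MultipleTransitivity
import Mathlib.GroupTheory.Index

/-!
# Involutions with one fixed point: basic facts

The setting of the regular normal subgroup step for a strongly embedded point stabiliser whose
involutions commute.
-/

set_option autoImplicit false
set_option linter.unusedSectionVars false
set_option linter.style.haveILetI false

namespace Cfsg.Agent.SERegular

open MulAction Subgroup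

universe u v

variable {G : Type u} {Ω : Type v} [Group G] [MulAction G Ω] {a : Ω}

/-- The involutions fixing a point. -/
def invAt (G : Type u) [Group G] [MulAction G Ω] (a : Ω) : Set G := {t | orderOf t = 2 ∧ t • a = a}

/-- The elements of the stabiliser centralising all its involutions. -/
def uCent (G : Type u) [Group G] [MulAction G Ω] (a : Ω) : Subgroup G :=
  stabilizer G a ⊓ centralizer (invAt G a)

theorem mem_uCent {g : G} :
    g ∈ uCent G a ↔ g • a = a ∧ ∀ t : G, orderOf t = 2 → t • a = a → t * g = g * t := by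
  simp only [uCent, mem_inf, mem_stabilizer_iff, mem_centralizer_iff, invAt, Set.mem_ofPred_eq, and_imp]

/-- Every involution fixes one point, those fixing `a` commute, there are at least two, and their
centraliser has odd index in the stabiliser. -/
structure Cfg (G : Type u) (Ω : Type v) [Group G] [MulAction G Ω] (a : Ω) : Prop where
  pretrans : IsPretransitive G Ω
  inv_fix : ∀ t : G, orderOf t = 2 → ∃! c : Ω, t • c = c
  comm : ∀ s t : G, orderOf s = 2 → orderOf t = 2 → s • a = a → t • a = a → s * t = t * s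
  four : ∃ s t : G, orderOf s = 2 ∧ orderOf t = 2 ∧ s • a = a ∧ t • a = a ∧ s ≠ t
  odd_cent : Odd ((uCent G a).relIndex (stabilizer G a))

/-- The stabiliser of `a` is transitive on the other points. -/
def TwoTrans (G : Type u) {Ω : Type v} [Group G] [MulAction G Ω] (a : Ω) : Prop :=
  ∀ b c : Ω, b ≠ a → c ≠ a → ∃ h : G, h • a = a ∧ h • b = c

/-- The transitivity statement. -/
def TwoTransStmt : Prop :=
  ∀ {G : Type u} {Ω : Type v} [Group G] [Finite G] [MulAction G Ω] [FaithfulSMul G Ω] (a : Ω),
    Cfg G Ω a → TwoTrans G a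

namespace Cfg

variable (hc : Cfg G Ω a)
include hc

theorem fix_eq {t : G} (ht : orderOf t = 2) {c d : Ω} (h1 : t • c = c) (h2 : t • d = d) : c = d :=
  (hc.inv_fix t ht).unique h1 h2

theorem fix_of_commute {t g : G} (ht : orderOf t = 2) {c : Ω} (h : t • c = c) (hg : g * t = t * g) :
    g • c = c :=
  hc.fix_eq ht (by rw [← mul_smul, ← hg, mul_smul, h]) h

theorem exists_invol : ∃ t : G, orderOf t = 2 ∧ t • a = a := by
  obtain ⟨s, _, hs, -, hsa, -, -⟩ := hc.four
  exact ⟨s, hs, hsa⟩

theorem exists_invol_at (c : Ω) : ∃ t : G, orderOf t = 2 ∧ t • c = c := by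
  obtain ⟨t, ht, hta⟩ := hc.exists_invol
  obtain ⟨g, rfl⟩ := hc.pretrans.exists_smul_eq a c
  refine ⟨g * t * g⁻¹, (Invol.order_conj g t).trans ht, ?_⟩
  rw [mul_smul, inv_smul_smul, mul_smul, hta]

theorem invol_semiregular {t : G} (ht : orderOf t = 2) (hta : t • a = a) {c : Ω} (hca : c ≠ a) : t • c ≠ c :=
  fun h => hca (hc.fix_eq ht h hta)

variable [Finite G]

theorem finite_points : Finite Ω :=
  have := hc.pretrans
  Finite.of_surjective (fun g : G => g • a) (MulAction.surjective_smul G a)

/-- Involutions fixing different points generate a group moving one point to the other. -/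
theorem exists_move {u v : G} (hu : orderOf u = 2) (hv : orderOf v = 2) {c d : Ω} (huc : u • c = c)
    (hvd : v • d = d) (hcd : c ≠ d) : ∃ k ∈ Subgroup.closure ({u, v} : Set G), k • c = d := by
  have hodd : Odd (orderOf (u * v)) := by
    rw [← Nat.not_even_iff_odd]
    intro hev
    obtain ⟨z, hz, hzx, hzy⟩ : ∃ z : G, orderOf z = 2 ∧ z * u = u * z ∧ z * v = v * z := by
      obtain ⟨m, hm⟩ := hev
      have hpos : 0 < orderOf (u * v) := orderOf_pos _
      have hz : orderOf ((u * v) ^ m) = 2 := by
        refine Invol.order_two_of_sq ?_ fun h => ?_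
        · rw [← pow_add, ← hm, pow_orderOf_eq_one]
        · have := Nat.le_of_dvd (by omega) (orderOf_dvd_of_pow_eq_one h); omega
      have hx := Invol.conj_pow (Invol.conj_mul hu hv) m
      rw [Invol.inv_self hz, mul_inv_eq_iff_eq_mul] at hx
      refine ⟨_, hz, hx.symm, ?_⟩
      have hv' : v = u * (u * v) := by rw [← mul_assoc, Invol.mul_self hu, one_mul]
      have h2 : Commute ((u * v) ^ m) (u * (u * v)) :=
        Commute.mul_right hx.symm (Commute.self_pow (u * v) m).symm
      rw [← hv'] at h2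
      exact h2
    have h1 := hc.fix_of_commute hu huc hzx
    have h2 := hc.fix_of_commute hv hvd hzy
    exact hcd (hc.fix_eq hz h1 h2)
  obtain ⟨k, hk, hkuv⟩ := Invol.conj_of_odd hu hv hodd
  refine ⟨k, hk, hc.fix_eq hv ?_ hvd⟩
  rw [← hkuv, mul_smul, inv_smul_smul, mul_smul, huc]

theorem stab_inf_odd {b c : Ω} (hbc : b ≠ c) : Odd (Nat.card ↥(stabilizer G b ⊓ stabilizer G c)) := by
  rw [← Nat.not_even_iff_odd]
  intro hev
  obtain ⟨t, ht⟩ := exists_prime_orderOf_dvd_card' (p := 2) hev.two_dvd
  rw [← Subgroup.orderOf_coe] at ht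
  exact hbc (hc.fix_eq ht t.2.1 t.2.2)

theorem smul_comm_at {g : G} {c : Ω} (hg : g • a = c) {s t : G} (hs : orderOf s = 2) (ht : orderOf t = 2)
    (hsc : s • c = c) (htc : t • c = c) : s * t = t * s := by
  subst hg
  have h := hc.comm (g⁻¹ * s * g⁻¹⁻¹) (g⁻¹ * t * g⁻¹⁻¹) ((Invol.order_conj _ _).trans hs)
    ((Invol.order_conj _ _).trans ht) (by rw [inv_inv, mul_smul, mul_smul, hsc, inv_smul_smul])
    (by rw [inv_inv, mul_smul, mul_smul, htc, inv_smul_smul])
  calc s * t = g * (g⁻¹ * s * g⁻¹⁻¹ * (g⁻¹ * t * g⁻¹⁻¹)) * g⁻¹ := by group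
    _ = g * (g⁻¹ * t * g⁻¹⁻¹ * (g⁻¹ * s * g⁻¹⁻¹)) * g⁻¹ := by rw [h]
    _ = t * s := by group

theorem comm_at {s t : G} {c : Ω} (hs : orderOf s = 2) (ht : orderOf t = 2) (hsc : s • c = c) (htc : t • c = c) :
    s * t = t * s := by
  obtain ⟨g, hg⟩ := hc.pretrans.exists_smul_eq a c
  exact hc.smul_comm_at hg hs ht hsc htc

end Cfg

end Cfsg.Agent.SERegular
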