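import Cfsg.Agent.Lib.SERegular.Factor
import Cfsg.Agent.Lib.SERegular.Sub
import Cfsg.Agent.Lib.SERegular.Complement
import Cfsg.Agent.Lib.SETrans.Adapter
import Cfsg.Agent.Lib.RankOneChar.Result
import Cfsg.Prelude.Def_LieRecognition

/-!
# A regular normal subgroup of the point stabiliser

If every involution fixes one point, the involutions of a point stabiliser commute, there are at
least two of them and their centraliser has odd index in the stabiliser, then the stabiliser has a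
normal `2`-subgroup regular on the remaining points.
-/

set_option autoImplicit false
set_option linter.unusedSectionVars false
set_option linter.style.haveILetI false

namespace Cfsg.Agent.SERegular

open MulAction Subgroup

universe u v

variable {G : Type u} {Ω : Type v} [Group G] [MulAction G Ω] {a : Ω}

theorem Cfg.twoTrans [Finite G] (hc : Cfg G Ω a) : TwoTrans G a :=
  twoTrans_of_stmt SETrans.twoTransStmt hc

variable [Finite G]

/-- The degree minus one is a power of two, for the groups of order less than `n`. -/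
def PowBelow (n : ℕ) : Prop :=
  ∀ {G' : Type u} {Ω' : Type v} [Group G'] [Finite G'] [MulAction G' Ω'] (a' : Ω'),
    Cfg G' Ω' a' → (∃ c, c ≠ a') → Nat.card G' < n → ∃ k : ℕ, Nat.card {c : Ω' // c ≠ a'} = 2 ^ k

theorem Cfg.two_elem_mem (hc : Cfg G Ω a) {g : G} (hg : IsPGroup 2 (zpowers g)) (hga : g • a = a) :
    g ∈ uCent G a := by
  have := uCent_normal hc
  set N := (uCent G a).subgroupOf (stabilizer G a)
  obtain ⟨k, hk⟩ := hg ⟨g, mem_zpowers g⟩
  have h1 : orderOf ((⟨g, hga⟩ : stabilizer G a) : stabilizer G a ⧸ N) ∣ 2 ^ k := by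
    refine orderOf_dvd_of_pow_eq_one ?_
    rw [← QuotientGroup.mk_pow, show (⟨g, hga⟩ : stabilizer G a) ^ 2 ^ k = 1 from
      Subtype.ext (by rw [Subgroup.coe_pow]; exact congrArg Subtype.val hk)]
    rfl
  have h2 : orderOf ((⟨g, hga⟩ : stabilizer G a) : stabilizer G a ⧸ N) ∣ N.index := by
    rw [Subgroup.index_eq_card]; exact orderOf_dvd_natCard _
  exact (QuotientGroup.eq_one_iff (N := N) _).1 (orderOf_eq_one_iff.1
    (Nat.eq_one_of_dvd_coprimes ((Nat.coprime_two_left.2 hc.odd_cent).pow_left k) h1 h2))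

variable [FaithfulSMul G Ω]

/-- The fixed points of a nontrivial `l`-subgroup centralising the involutions at `a`. -/
theorem Cfg.fix_block (hc : Cfg G Ω a) (ih : PowBelow.{u, v} (Nat.card G)) {b : Ω} (hb : b ≠ a) {l : ℕ}
    [Fact l.Prime] (hl2 : l ≠ 2) {Y : Subgroup G} (hYp : IsPGroup l Y) (hY1 : Y ≠ ⊥)
    (hYX : Y ≤ uCent G a ⊓ stabilizer G b) :
    (∃ k : ℕ, Nat.card {c : Ω // c ∈ fixSet Ω Y ∧ c ≠ a} = 2 ^ k) ∧
      ∀ c d : Ω, c ∈ fixSet Ω Y → c ≠ a → d ∈ fixSet Ω Y → d ≠ a →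
        ∃ h : G, h • a = a ∧ h ∈ centralizer (Y : Set G) ∧ h • c = d := by
  classical
  have ht := hc.twoTrans
  obtain ⟨s, t, hs, hto, hsa, hta, hne⟩ := hc.four
  have hUY : ∀ {v : G}, orderOf v = 2 → v • a = a → v ∈ centralizer (Y : Set G) := fun {v} hv hva =>
    mem_centralizer_iff.2 fun g hg => ((mem_uCent.1 (hYX hg).1).2 v hv hva).symm
  obtain ⟨ha', hE⟩ := hc.sub (centralizer (Y : Set G))
    ⟨s, t, hUY hs hsa, hUY hto hta, hs, hto, hsa, hta, hne⟩
  set E := centralizer (Y : Set G) with hEdef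
  have haF : a ∈ fixSet Ω Y := fun g hg => (mem_uCent.1 (hYX hg).1).1
  have hbF : b ∈ fixSet Ω Y := fun g hg => (hYX hg).2
  have hsb : s • b ∈ fixSet Ω Y := smul_fixSet (centralizer_le_normalizer _ (hUY hs hsa)) hbF
  have hsba : s • b ≠ a := fun e => hb (by
    have := congrArg (s • ·) e
    simpa [← mul_smul, Invol.mul_self hs, hsa] using this)
  have hgood : ∀ c ∈ fixSet Ω Y, c ∈ goodPts (Ω := Ω) E := fun c hcF => by
    obtain ⟨v, hv, hvc, hvY⟩ := hc.all_good ht hl2 hYp haF hbF hsb hb.symm hsba.symm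
      (hc.invol_semiregular hs hsa hb).symm hcF
    exact mem_goodPts.2 ⟨v, hvY, hv, hvc⟩
  have hfix : ∀ c, c ∈ goodPts (Ω := Ω) E → c ∈ fixSet Ω Y := fun c hcE g hg => by
    obtain ⟨v, hvE, hv, hvc⟩ := mem_goodPts.1 hcE
    exact hc.fix_of_commute hv hvc (mem_centralizer_iff.1 hvE g hg)
  have hlt : Nat.card E < Nat.card G := by
    refine lt_of_le_of_ne (Subgroup.card_le_card_group E) fun he => hY1 ?_
    have htop : E = ⊤ := Subgroup.eq_top_of_card_eq E he
    refine (Subgroup.eq_bot_iff_forall Y).2 fun g hg => eq_of_smul_eq_smul fun c : Ω => ?_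
    obtain ⟨f, rfl⟩ := hc.pretrans.exists_smul_eq a c
    rw [one_smul, ← mul_smul, mem_centralizer_iff.1 (htop ▸ mem_top f : f ∈ E) g hg, mul_smul, haF g hg]
  refine ⟨?_, fun c d hcF hca hdF hda => ?_⟩
  · obtain ⟨k, hk⟩ := ih _ hE
      ⟨⟨b, hgood b hbF⟩, fun e => hb (congrArg Subtype.val e)⟩ hlt
    refine ⟨k, hk ▸ Nat.card_congr
      { toFun := fun c => ⟨⟨c.1, hgood _ c.2.1⟩, fun e => c.2.2 (congrArg Subtype.val e)⟩
        invFun := fun c => ⟨c.1.1, hfix _ c.1.2, fun e => c.2 (Subtype.ext e)⟩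
        left_inv := fun _ => rfl
        right_inv := fun _ => rfl }⟩
  · obtain ⟨h, hha, hhc⟩ := hE.twoTrans ⟨c, hgood c hcF⟩ ⟨d, hgood d hdF⟩
      (fun e => hca (congrArg Subtype.val e)) (fun e => hda (congrArg Subtype.val e))
    exact ⟨(h : G), congrArg Subtype.val hha, h.2, congrArg Subtype.val hhc⟩

/-- The two-point part of the centraliser of the involutions is a Hall subgroup of it. -/
theorem Cfg.hall (hc : Cfg G Ω a) (ih : PowBelow.{u, v} (Nat.card G)) {b : Ω} (hb : b ≠ a) :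
    Nat.Coprime (Nat.card ((stabilizer G b).subgroupOf (uCent G a)))
      ((stabilizer G b).subgroupOf (uCent G a)).index := by
  classical
  set X := (stabilizer G b).subgroupOf (uCent G a) with hX
  refine Nat.coprime_of_dvd' fun l hl hlX hlI => ?_
  haveI := Fact.mk hl
  have hl2 : l ≠ 2 := by
    rintro rfl
    obtain ⟨x, hx⟩ := exists_prime_orderOf_dvd_card' (p := 2) hlX
    rw [← Subgroup.orderOf_coe, ← Subgroup.orderOf_coe] at hx
    exact hb (hc.fix_eq hx (x.2 : ((x : uCent G a) : G) • b = b) (mem_uCent.1 (x : uCent G a).2).1)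
  obtain ⟨P₀⟩ : Nonempty (Sylow l X) := inferInstance
  set P := (P₀ : Subgroup X).map X.subtype with hP
  have hPp : IsPGroup l P := P₀.isPGroup'.map _
  obtain ⟨S, hS⟩ := hPp.exists_le_sylow
  have hcardP : Nat.card P = Nat.card (P₀ : Subgroup X) :=
    Subgroup.card_map_of_injective X.subtype_injective
  have hne : (S : Subgroup (uCent G a)) ≠ P := by
    intro e
    refine S.not_dvd_index (dvd_trans hlI (Subgroup.index_dvd_of_le ?_))
    rw [e]; exact map_subtype_le _
  haveI := S.isPGroup'.isNilpotent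
  have hlt' : P.subgroupOf (S : Subgroup (uCent G a)) < ⊤ := by
    rw [lt_top_iff_ne_top, Ne, subgroupOf_eq_top]
    exact fun h => hne (le_antisymm h hS)
  obtain ⟨g, hg, hgn⟩ := SetLike.exists_of_lt (Group.normalizerCondition_of_isNilpotent _ hlt')
  set L := (S : Subgroup (uCent G a)) ⊓ normalizer (P : Set (uCent G a)) with hL
  have hPL : P ≤ L := le_inf hS le_normalizer
  have hgN : (g : uCent G a) ∈ normalizer (P : Set (uCent G a)) := by
    refine mem_normalizer_iff.2 fun y => ⟨fun hy => ?_, fun hy => ?_⟩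
    · exact (mem_normalizer_iff.1 hg ⟨y, hS hy⟩).1 hy
    · have hyS : y ∈ (S : Subgroup (uCent G a)) := by
        simpa [mul_assoc] using mul_mem (mul_mem (inv_mem g.2) (hS hy)) g.2
      exact (mem_normalizer_iff.1 hg ⟨y, hyS⟩).2 hy
  have hlcard : Nat.card P < Nat.card L := by
    refine Set.ncard_lt_ncard (SetLike.coe_ssubset_coe.2 (lt_of_le_of_ne hPL fun e => hgn ?_)) (Set.toFinite _)
    show (g : uCent G a) ∈ P
    rw [e]
    exact ⟨g.2, hgN⟩
  set Y := P.map (uCent G a).subtype with hY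
  have hYX : Y ≤ uCent G a ⊓ stabilizer G b := by
    rintro _ ⟨y, ⟨x, -, rfl⟩, rfl⟩
    exact ⟨(x : uCent G a).2, x.2⟩
  have hY1 : Y ≠ ⊥ := by
    intro e
    have h0 : Nat.card Y = 1 := by rw [e, Subgroup.card_bot]
    rw [hY, Subgroup.card_map_of_injective (uCent G a).subtype_injective, hcardP] at h0
    have := Sylow.card_eq_multiplicity P₀
    rw [h0] at this
    exact (hl.one_lt.trans_le (Nat.le_self_pow
      (Nat.one_le_iff_ne_zero.1 ((hl.dvd_iff_one_le_factorization Nat.card_pos.ne').1 hlX)) l)).ne' this.symm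
  obtain ⟨⟨k, hk⟩, -⟩ := hc.fix_block ih hb hl2 (hPp.map _) hY1 hYX
  -- the larger group fixes another point
  have hLfix : ∀ (y : L) (c : Ω), c ∈ fixSet Ω Y → ((y : uCent G a) : G) • c ∈ fixSet Ω Y := by
    intro y c hcF
    refine smul_fixSet (mem_normalizer_iff.2 fun z => ⟨?_, ?_⟩) hcF
    · rintro ⟨w, hw, rfl⟩
      exact ⟨_, (mem_normalizer_iff.1 y.2.2 w).1 hw, by simp⟩
    · rintro ⟨w, hw, he⟩
      refine ⟨(y : uCent G a)⁻¹ * w * y, (mem_normalizer_iff''.1 y.2.2 w).1 hw, ?_⟩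
      rw [Subgroup.coe_subtype] at he ⊢
      push_cast
      rw [he]; group
  letI : MulAction L {c : Ω // c ∈ fixSet Ω Y ∧ c ≠ a} :=
    { smul := fun y c => ⟨((y : uCent G a) : G) • c.1, hLfix y c.1 c.2.1, fun e => c.2.2
        (smul_left_cancel _ (e.trans (mem_uCent.1 (y : uCent G a).2).1.symm))⟩
      one_smul := fun c => Subtype.ext (one_smul G c.1)
      mul_smul := fun x y c => Subtype.ext (mul_smul ((x : uCent G a) : G) ((y : uCent G a) : G) c.1) }
  haveI := hc.finite_points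
  have hmod := (S.isPGroup'.to_le (inf_le_left : L ≤ S)).card_modEq_card_fixedPoints
    {c : Ω // c ∈ fixSet Ω Y ∧ c ≠ a}
  obtain ⟨⟨c, hcfix⟩⟩ : Nonempty (fixedPoints L {c : Ω // c ∈ fixSet Ω Y ∧ c ≠ a}) := by
    rw [← not_isEmpty_iff]
    intro hempty
    rw [Nat.card_of_isEmpty (α := fixedPoints L {c : Ω // c ∈ fixSet Ω Y ∧ c ≠ a}), hk,
      Nat.modEq_zero_iff_dvd] at hmod
    exact hl2 ((Nat.prime_dvd_prime_iff_eq hl Nat.prime_two).1 (hl.dvd_of_dvd_pow hmod))
  obtain ⟨m, hm, hmc⟩ := hc.uCent_trans hc.twoTrans c.2.2 hb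
  set m' : uCent G a := ⟨m, hm⟩
  have hLX : L.map (MulAut.conj m').toMonoidHom ≤ X := by
    rintro _ ⟨y, hy, rfl⟩
    show (m * (y : G) * m⁻¹) • b = b
    have hyc : (y : G) • c.1 = c.1 := congrArg Subtype.val (hcfix ⟨y, hy⟩)
    rw [mul_smul, mul_smul, ← hmc, inv_smul_smul, hyc]
  obtain ⟨S', hS'⟩ := (((S.isPGroup'.to_le (inf_le_left : L ≤ S)).map
    (MulAut.conj m').toMonoidHom).comap_subtype (K := X)).exists_le_sylow
  have h1 : Nat.card L ≤ Nat.card (S' : Subgroup X) := by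
    refine le_trans (le_of_eq ?_) (Nat.card_le_card_of_injective _ (Set.inclusion_injective hS'))
    show _ = Nat.card ((L.map (MulAut.conj m').toMonoidHom).subgroupOf X)
    rw [Nat.card_congr (Subgroup.subgroupOfEquivOfLe hLX).toEquiv,
      Subgroup.card_map_of_injective (MulAut.conj m').injective]
  rw [Sylow.card_eq_multiplicity S'] at h1
  rw [hcardP, Sylow.card_eq_multiplicity P₀] at hlcard
  omega

/-- Conjugation in the centraliser of the involutions between elements of the two-point part. -/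
theorem Cfg.control (hc : Cfg G Ω a) (ih : PowBelow.{u, v} (Nat.card G)) {b : Ω} (hb : b ≠ a)
    {x : uCent G a} (hxX : x ∈ (stabilizer G b).subgroupOf (uCent G a))
    (hxp : ∃ p k : ℕ, p.Prime ∧ orderOf x = p ^ k) (hx1 : x ≠ 1) {m : uCent G a}
    (hm : m * x * m⁻¹ ∈ (stabilizer G b).subgroupOf (uCent G a)) :
    ∃ k : uCent G a, IsPGroup 2 (zpowers k) ∧ k * x = x * k ∧
      m * k ∈ (stabilizer G b).subgroupOf (uCent G a) := by
  classical
  obtain ⟨p, e, hp, hpe⟩ := hxp
  haveI := Fact.mk hp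
  haveI : Fact (Nat.Prime 2) := ⟨Nat.prime_two⟩
  have hxb : (x : G) • b = b := hxX
  have hxa : (x : G) • a = a := (mem_uCent.1 x.2).1
  have hx1' : (x : G) ≠ 1 := fun h => hx1 (Subtype.ext h)
  have hodd : Odd (orderOf (x : G)) :=
    (hc.stab_inf_odd hb.symm).of_dvd_nat (Subgroup.orderOf_dvd_natCard _ ⟨hxa, hxb⟩)
  have hp2 : p ≠ 2 := by
    rintro rfl
    rw [Subgroup.orderOf_coe, hpe] at hodd
    rcases Nat.eq_zero_or_pos e with he | he
    · rw [he, pow_zero, orderOf_eq_one_iff] at hpe; exact hx1 hpe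
    · exact Nat.not_even_iff_odd.2 hodd ((Nat.even_pow).2 ⟨even_two, he.ne'⟩)
  set Y := zpowers (x : G) with hY
  have hYp : IsPGroup p Y := IsPGroup.of_card (n := e) (by
    rw [hY, Nat.card_zpowers, Subgroup.orderOf_coe, hpe])
  have hYX : Y ≤ uCent G a ⊓ stabilizer G b := zpowers_le.2 ⟨x.2, hxb⟩
  obtain ⟨⟨j, hj⟩, htr⟩ := hc.fix_block ih hb hp2 hYp (fun h => hx1' (zpowers_eq_bot.1 h)) hYX
  set c : Ω := (m : G)⁻¹ • b with hcdef
  have hca : c ≠ a := fun h => hb (by
    rw [hcdef, inv_smul_eq_iff, (mem_uCent.1 m.2).1] at h; exact h)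
  have hcY : c ∈ fixSet Ω Y := by
    intro g hg
    refine (zpowers_le (H := stabilizer G c)).2 ?_ hg
    have h1 : ((m : G) * x * (m : G)⁻¹) • b = b := hm
    show (x : G) • c = c
    rw [hcdef]
    rw [mul_smul, mul_smul, ← eq_inv_smul_iff] at h1
    exact h1
  have hbY : b ∈ fixSet Ω Y := fun g hg => (hYX hg).2
  -- a Sylow 2-subgroup of the centraliser of `x` is regular on the other fixed points
  let A := stabilizer G a ⊓ centralizer (Y : Set G)
  have hAF : ∀ (g : A) (d : Ω), d ∈ fixSet Ω Y → (g : G) • d ∈ fixSet Ω Y := fun g d hd =>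
    smul_fixSet (centralizer_le_normalizer _ g.2.2) hd
  let F := {d : Ω // d ∈ fixSet Ω Y ∧ d ≠ a}
  letI : MulAction A F :=
    { smul := fun g d => ⟨(g : G) • d.1, hAF g d.1 d.2.1, fun h => d.2.2
        (smul_left_cancel (g : G) (h.trans g.2.1.symm))⟩
      one_smul := fun d => Subtype.ext (one_smul G d.1)
      mul_smul := fun g h d => Subtype.ext (mul_smul (g : G) h d.1) }
  haveI : MulAction.IsPretransitive A F := ⟨fun d d' => by
    obtain ⟨h, hha, hhY, hhd⟩ := htr d.1 d'.1 d.2.1 d.2.2 d'.2.1 d'.2.2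
    exact ⟨⟨h, hha, hhY⟩, Subtype.ext hhd⟩⟩
  set b' : F := ⟨b, hbY, hb⟩
  obtain ⟨R⟩ : Nonempty (Sylow 2 A) := inferInstance
  have hinj : Function.Injective fun r : (R : Subgroup A) => (r : A) • b' := by
    intro r r' h
    have h0 : (r'⁻¹ * r : (R : Subgroup A)) = 1 := by
      by_contra hne
      set d : (R : Subgroup A) := r'⁻¹ * r
      have hd : (d : A) • b' = b' := by
        show (((r'⁻¹ * r : (R : Subgroup A)) : A)) • b' = b'
        rw [Subgroup.coe_mul, Subgroup.coe_inv, mul_smul]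
        exact inv_smul_eq_iff.2 h
      have hmem : ((d : A) : G) ∈ stabilizer G a ⊓ stabilizer G b :=
        ⟨(d : A).2.1, congrArg Subtype.val hd⟩
      obtain ⟨k, hk⟩ := R.isPGroup' d
      refine hne (Subtype.ext (Subtype.ext (orderOf_eq_one_iff.1 (Nat.eq_one_of_dvd_coprimes
        ((Nat.coprime_two_left.2 (hc.stab_inf_odd hb.symm)).pow_left k)
        (orderOf_dvd_of_pow_eq_one ?_) (Subgroup.orderOf_dvd_natCard _ hmem)))))
      exact congrArg (fun z : (R : Subgroup A) => ((z : A) : G)) hk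
    exact (inv_mul_eq_one.1 h0).symm
  have hcard : Nat.card F ≤ Nat.card (R : Subgroup A) := by
    have hdvd : Nat.card F ∣ Nat.card A :=
      (MulAction.index_stabilizer_of_transitive A b') ▸ Subgroup.index_dvd_card _
    have hF : Nat.card F = 2 ^ j := hj
    rw [hF] at hdvd ⊢
    rw [Sylow.card_eq_multiplicity R]
    exact Nat.pow_le_pow_right two_pos ((Nat.prime_two.pow_dvd_iff_le_factorization Nat.card_pos.ne').1 hdvd)
  haveI := hc.finite_points
  haveI : Finite F := Subtype.finite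
  obtain ⟨r, hr⟩ := ((Nat.bijective_iff_injective_and_card _).2
    ⟨hinj, le_antisymm (Nat.card_le_card_of_injective _ hinj) hcard⟩).2 ⟨c, hcY, hca⟩
  have hra : ((r : A) : G) • a = a := (r : A).2.1
  have h2r : IsPGroup 2 (zpowers ((r : A) : G)) := by
    exact (R.isPGroup'.map A.subtype).to_le (zpowers_le.2 ⟨r, r.2, rfl⟩)
  refine ⟨⟨_, hc.two_elem_mem h2r hra⟩, ?_, Subtype.ext ?_, ?_⟩
  · obtain ⟨n, hn⟩ := IsPGroup.iff_card.1 h2r
    exact IsPGroup.of_card (n := n) (by
      rw [Nat.card_zpowers, ← hn, Nat.card_zpowers, ← Subgroup.orderOf_coe])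
  · exact (mem_centralizer_iff.1 (r : A).2.2 _ (mem_zpowers (x : G))).symm
  · show ((m : G) * ((r : A) : G)) • b = b
    rw [mul_smul, show ((r : A) : G) • b = c from congrArg Subtype.val hr, hcdef, smul_inv_smul]

/-- The regular normal subgroup, given the degrees of the smaller groups. -/
theorem Cfg.exists_setup (hc : Cfg G Ω a) (ih : PowBelow.{u, v} (Nat.card G)) {b : Ω} (hb : b ≠ a) :
    ∃ (t : G) (Q : Subgroup G), Cfsg.IsRankOneSetup G Ω a t Q ∧ IsPGroup 2 Q ∧
      Nat.card Q = Nat.card {c : Ω // c ≠ a} := by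
  classical
  haveI : Fintype G := Fintype.ofFinite G
  have ht := hc.twoTrans
  set M := uCent G a with hM
  set X := (stabilizer G b).subgroupOf M with hX
  have hXodd : Odd (Nat.card X) := by
    refine (hc.stab_inf_odd hb.symm).of_dvd_nat ?_
    rw [← Subgroup.card_map_of_injective M.subtype_injective]
    refine Subgroup.card_dvd_of_le ?_
    rintro _ ⟨x, hx, rfl⟩
    exact ⟨(mem_uCent.1 x.2).1, hx⟩
  obtain ⟨Q₀, hQn, hQX, hQtop, hcop⟩ := exists_complement X hXodd (hc.hall ih hb)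
    fun x hx hxp hx1 m hm => hc.control ih hb hx hxp hx1 hm
  haveI := hQn
  have hidx : Q₀.index = Nat.card X := by
    rw [← relIndex_top_right, ← hQtop, sup_comm, relIndex_sup_right, ← inf_relIndex_right, hQX,
      relIndex_bot_left]
  -- membership by the order
  have hmem : ∀ y : M, (orderOf y).Coprime (Nat.card X) → y ∈ Q₀ := fun y hy =>
    (QuotientGroup.eq_one_iff y).1 (orderOf_eq_one_iff.1 (Nat.eq_one_of_dvd_coprimes hy
      (orderOf_map_dvd (QuotientGroup.mk' Q₀) y)
      (by rw [← hidx, Subgroup.index_eq_card]; exact orderOf_dvd_natCard _)))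
  set Q := Q₀.map M.subtype with hQ
  have hQa : Q ≤ stabilizer G a := by
    rintro _ ⟨y, -, rfl⟩
    exact (mem_uCent.1 y.2).1
  obtain ⟨t, ht2, hta, -⟩ := hc.exists_swapper ht hb.symm
  have hab : a ≠ b := hb.symm
  have hsetup : Cfsg.IsRankOneSetup G Ω a t Q :=
    { two_transitive := MulAction.is_two_pretransitive_iff.2 fun {p r p' r'} h h' =>
        hc.exists_smul_pair ht h h'
      mul_self := Invol.mul_self ht2
      ne_one := Invol.ne_one ht2
      not_mem := fun h => hab ((show t • a = a from h).symm.trans hta)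
      le := hQa
      conj_mem := by
        intro h hh z hz
        obtain ⟨y, hy, rfl⟩ := hz
        have hn := uCent_normal hc
        have hyM : h * (y : G) * h⁻¹ ∈ M :=
          mem_subgroupOf.1 (hn.conj_mem ⟨(y : G), (mem_uCent.1 y.2).1⟩ y.2 ⟨h, hh⟩)
        refine ⟨⟨_, hyM⟩, hmem _ ?_, rfl⟩
        have h1 : orderOf (⟨h * (y : G) * h⁻¹, hyM⟩ : M) = orderOf y := by
          rw [← Subgroup.orderOf_coe, ← Subgroup.orderOf_coe y]
          exact Invol.order_conj h y
        rw [h1]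
        exact hcop.coprime_dvd_left (Subgroup.orderOf_dvd_natCard _ hy)
      inf_eq_bot := by
        rw [hta, Subgroup.eq_bot_iff_forall]
        rintro z ⟨⟨y, hy, rfl⟩, hzb⟩
        have : y ∈ Q₀ ⊓ X := ⟨hy, hzb⟩
        rw [hQX, Subgroup.mem_bot] at this
        rw [this]; rfl
      sup_eq := by
        rw [hta]
        refine le_antisymm (sup_le hQa inf_le_left) fun g hg => ?_
        have hgb : g • b ≠ a := fun e => hb (smul_left_cancel g (e.trans (hg : g • a = a).symm))
        obtain ⟨m, hm, hmb⟩ := hc.uCent_trans ht hb hgb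
        have hmem' : (⟨m, hm⟩ : M) ∈ Q₀ ⊔ X := hQtop ▸ mem_top _
        rw [← SetLike.mem_coe, Subgroup.normal_mul] at hmem'
        obtain ⟨y, hy, x, hx, hyx⟩ := hmem'
        have hm' : (y : G) * (x : G) = m := congrArg Subtype.val hyx
        have hxa : (x : G) • a = a := (mem_uCent.1 x.2).1
        have hd : m⁻¹ * g ∈ stabilizer G a ⊓ stabilizer G b := by
          refine ⟨?_, ?_⟩
          · show (m⁻¹ * g) • a = a
            rw [mul_smul, show g • a = a from hg, inv_smul_eq_iff, (mem_uCent.1 hm).1]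
          · show (m⁻¹ * g) • b = b
            rw [mul_smul, inv_smul_eq_iff, hmb]
        have hsplit : g = (y : G) * ((x : G) * (m⁻¹ * g)) := by
          rw [← mul_assoc, hm']; group
        rw [hsplit]
        exact mul_mem (mem_sup_left ⟨y, hy, rfl⟩) (mem_sup_right (mul_mem ⟨hxa, hx⟩ hd))
      even_card := by
        obtain ⟨v, hv, hva⟩ := hc.exists_invol
        refine Invol.even_of_invol_mem hv ⟨⟨v, hc.uSub_le_uCent (hc.invol_mem_uSub hv hva)⟩, hmem _ ?_, rfl⟩
        rw [Subgroup.orderOf_mk, hv]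
        exact Nat.coprime_two_left.2 hXodd
      odd_card := by
        rw [hta]
        exact hc.stab_inf_odd hab }
  obtain ⟨s₁, s₂, hs₁, hs₂, hs₁a, hs₂a, hne⟩ := hc.four
  refine ⟨t, Q, hsetup, RankOneChar.q_isPGroup_two hsetup
    ⟨s₁, s₂, Invol.ne_one hs₁, Invol.ne_one hs₂, hne, Invol.mul_self hs₁, Invol.mul_self hs₂,
      hc.comm s₁ s₂ hs₁ hs₂ hs₁a hs₂a⟩, ?_⟩
  refine Nat.card_congr (Equiv.ofBijective
    (fun q => (⟨(q : G) • b, fun e => hb (smul_left_cancel _ (e.trans (hQa q.2).symm))⟩ :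
      {c : Ω // c ≠ a})) ⟨fun q q' h => ?_, fun c => ?_⟩)
  · have h1 : (q' : G)⁻¹ * q ∈ Q ⊓ stabilizer G (t • a) := by
      refine ⟨Q.mul_mem (Q.inv_mem q'.2) q.2, ?_⟩
      rw [hta]
      show ((q' : G)⁻¹ * q) • b = b
      rw [mul_smul, inv_smul_eq_iff]
      exact congrArg Subtype.val h
    rw [hsetup.inf_eq_bot, Subgroup.mem_bot, inv_mul_eq_one] at h1
    exact (Subtype.ext h1).symm
  · obtain ⟨m, hm, hmb⟩ := hc.uCent_trans ht hb c.2
    have hmem' : (⟨m, hm⟩ : M) ∈ Q₀ ⊔ X := hQtop ▸ mem_top _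
    rw [← SetLike.mem_coe, Subgroup.normal_mul] at hmem'
    obtain ⟨y, hy, x, hx, hyx⟩ := hmem'
    refine ⟨⟨(y : G), y, hy, rfl⟩, Subtype.ext ?_⟩
    show (y : G) • b = c.1
    rw [← hmb, show m = (y : G) * (x : G) from (congrArg Subtype.val hyx).symm, mul_smul,
      show (x : G) • b = b from hx]

omit [FaithfulSMul G Ω] in
theorem powBelow : ∀ n : ℕ, PowBelow.{u, v} n := by
  intro n
  induction n using Nat.strong_induction_on with
  | _ n ih =>
  intro G' Ω' _ _ _ a' hc hne hlt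
  letI := quotAction G' Ω'
  haveI := quotAction_faithful G' Ω'
  have hc' := hc.quot hne
  obtain ⟨b, hb⟩ := hne
  have hle : Nat.card (G' ⧸ (toPermHom G' Ω').ker) ≤ Nat.card G' :=
    Nat.card_le_card_of_surjective _ QuotientGroup.mk_surjective
  obtain ⟨t, Q, -, hQ, hcard⟩ := hc'.exists_setup (ih _ (lt_of_le_of_lt hle hlt)) hb
  obtain ⟨k, hk⟩ := IsPGroup.iff_card.1 hQ
  exact ⟨k, hcard ▸ hk⟩

/-- The stabiliser of a point has a normal `2`-subgroup regular on the other points. -/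
theorem exists_regular (hc : Cfg G Ω a) (hne : ∃ c : Ω, c ≠ a) :
    ∃ (t : G) (Q : Subgroup G), Cfsg.IsRankOneSetup G Ω a t Q ∧ IsPGroup 2 Q ∧
      Nat.card Q = Nat.card {c : Ω // c ≠ a} := by
  obtain ⟨b, hb⟩ := hne
  exact hc.exists_setup (powBelow _) hb

end Cfsg.Agent.SERegular
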