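import Cfsg.Agent.Lib.SERegular.Basic

/-!
# Conjugation of the stabiliser on its involutions
-/

set_option autoImplicit false
set_option linter.unusedSectionVars false

namespace Cfsg.Agent.SERegular

open MulAction Subgroup

universe u v

variable {G : Type u} {Ω : Type v} [Group G] [MulAction G Ω] [Finite G] {a : Ω}

/-- Conjugation on the involutions fixing `a`. -/
def Cfg.conjHom (hc : Cfg G Ω a) : stabilizer G a →* MulAut hc.uSub where
  toFun g :=
    { toFun := fun x => ⟨(g : G) * x * (g : G)⁻¹, hc.uSub_conj g.2 x.2⟩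
      invFun := fun x => ⟨(g : G)⁻¹ * x * (g : G), by
        have := hc.uSub_conj (g := (g : G)⁻¹) (g⁻¹).2 x.2
        rwa [inv_inv] at this⟩
      left_inv := fun x => Subtype.ext (show (g : G)⁻¹ * ((g : G) * x * (g : G)⁻¹) * g = x by group)
      right_inv := fun x => Subtype.ext (show (g : G) * ((g : G)⁻¹ * x * g) * (g : G)⁻¹ = x by group)
      map_mul' := fun x y => Subtype.ext (show (g : G) * (x * y) * (g : G)⁻¹ =
        (g : G) * x * (g : G)⁻¹ * ((g : G) * y * (g : G)⁻¹) by group) }
  map_one' := MulEquiv.ext fun x => Subtype.ext (by simp)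
  map_mul' g h := MulEquiv.ext fun x => Subtype.ext (show (g : G) * h * x * ((g : G) * h)⁻¹ =
    (g : G) * ((h : G) * x * (h : G)⁻¹) * (g : G)⁻¹ by group)

theorem Cfg.mem_ker_conjHom (hc : Cfg G Ω a) (g : stabilizer G a) :
    g ∈ (hc.conjHom).ker ↔ (g : G) ∈ uCent G a := by
  rw [MonoidHom.mem_ker, mem_uCent]
  constructor
  · intro h
    refine ⟨g.2, fun t ht hta => ?_⟩
    have := congrArg Subtype.val (DFunLike.congr_fun h ⟨t, hc.invol_mem_uSub ht hta⟩)
    have h' : (g : G) * t * (g : G)⁻¹ = t := this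
    exact (mul_inv_eq_iff_eq_mul.1 h').symm
  · rintro ⟨-, h⟩
    refine MulEquiv.ext fun x => Subtype.ext ?_
    show (g : G) * x * (g : G)⁻¹ = x
    rcases eq_or_ne (x : G) 1 with e | e
    · rw [e]; group
    · rw [← h x (hc.order_of_mem x.2 e) x.2.2, mul_inv_cancel_right]

end Cfsg.Agent.SERegular
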