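import Cfsg.Agent.Lib.SERegular.TwoPoint
import Cfsg.Agent.Lib.SERegular.Conj
import Cfsg.Agent.S0205

/-!
# The centraliser of the involutions is transitive on the other points
-/

set_option autoImplicit false
set_option linter.unusedSectionVars false
set_option linter.style.haveILetI false

namespace Cfsg.Agent.SERegular

open MulAction Subgroup

universe u v

/-- A nontrivial soluble group has a nontrivial normal abelian subgroup of prime exponent. -/
theorem exists_normal_elem {K : Type u} [Group K] [Finite K] [Group.IsSolvable K] [Nontrivial K] :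
    ∃ (s : ℕ) (A : Subgroup K), s.Prime ∧ A.Normal ∧ A ≠ ⊥ ∧ IsPGroup s A ∧
      ∀ x ∈ A, ∀ y ∈ A, x * y = y * x := by
  classical
  have hex : ∃ n, derivedSeries K n = ⊥ := (Group.isSolvable_def K).1 inferInstance
  set n := Nat.find hex with hn
  have hn0 : n ≠ 0 := fun e => by
    have := Nat.find_spec hex
    rw [← hn, e, derivedSeries_zero] at this
    exact top_ne_bot this
  obtain ⟨j, hj⟩ := Nat.exists_eq_succ_of_ne_zero hn0
  set B := derivedSeries K j
  have hB : B ≠ ⊥ := Nat.find_min hex (m := j) (by omega)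
  have hBn : B.Normal := derivedSeries_normal K j
  have hcomm : ∀ x ∈ B, ∀ y ∈ B, x * y = y * x := by
    intro x hx y hy
    have h0 : ⁅B, B⁆ = ⊥ := by
      have := Nat.find_spec hex
      rw [← hn, hj] at this
      exact this
    exact Subgroup.mem_centralizer_iff.1 ((Subgroup.commutator_eq_bot_iff_le_centralizer.1 h0) hy) x hx
  obtain ⟨s, hs, hsB⟩ := Nat.exists_prime_and_dvd (n := Nat.card B) fun h => hB (Subgroup.card_eq_one.1 h)
  haveI := Fact.mk hs
  obtain ⟨b, hb⟩ := exists_prime_orderOf_dvd_card' (p := s) hsB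
  let A : Subgroup K :=
    { carrier := {x | x ∈ B ∧ x ^ s = 1}
      one_mem' := ⟨one_mem B, one_pow s⟩
      mul_mem' := fun {x y} hx hy => ⟨mul_mem hx.1 hy.1, by
        rw [(show Commute x y from hcomm x hx.1 y hy.1).mul_pow, hx.2, hy.2, one_mul]⟩
      inv_mem' := fun {x} hx => ⟨inv_mem hx.1, by rw [inv_pow, hx.2, inv_one]⟩ }
  refine ⟨s, A, hs, ⟨fun x hx g => ⟨hBn.conj_mem x hx.1 g, by rw [conj_pow, hx.2, mul_one, mul_inv_cancel]⟩⟩,
    fun e => ?_, fun x => ⟨1, Subtype.ext (by rw [pow_one]; exact x.2.2)⟩, fun x hx y hy => hcomm x hx.1 y hy.1⟩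
  have hmem : (b : K) ∈ A := ⟨b.2, by rw [← Subgroup.coe_pow, ← hb, pow_orderOf_eq_one, Subgroup.coe_one]⟩
  rw [e, Subgroup.mem_bot] at hmem
  rw [← Subgroup.orderOf_coe, hmem, orderOf_one] at hb
  exact hs.ne_one hb.symm

/-- A Sylow subgroup meets a normal subgroup in a subgroup of index prime to `p`. -/
theorem not_dvd_relIndex_inf {K : Type u} [Group K] [Finite K] {p : ℕ} [Fact p.Prime] (S : Sylow p K)
    (N : Subgroup K) [N.Normal] : ¬ p ∣ ((S : Subgroup K) ⊓ N).relIndex N := by
  intro h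
  refine S.not_dvd_index (dvd_trans ?_ (relIndex_dvd_index_of_le (le_sup_left : (S : Subgroup K) ≤ (S : Subgroup K) ⊔ N)))
  have h1 := relIndex_mul_relIndex ((S : Subgroup K) ⊓ N) N ((S : Subgroup K) ⊔ N) inf_le_right le_sup_right
  have h2 := relIndex_mul_relIndex ((S : Subgroup K) ⊓ N) (S : Subgroup K) ((S : Subgroup K) ⊔ N)
    inf_le_left le_sup_left
  rw [relIndex_sup_right, inf_relIndex_left] at *
  have hpos : N.relIndex (S : Subgroup K) ≠ 0 := by
    rw [relIndex]; exact index_ne_zero_of_finite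
  have e : ((S : Subgroup K) ⊓ N).relIndex N = (S : Subgroup K).relIndex ((S : Subgroup K) ⊔ N) :=
    mul_right_cancel₀ hpos (h1.trans (h2.symm.trans (mul_comm _ _)))
  exact e ▸ h

variable {G : Type u} {Ω : Type v} [Group G] [MulAction G Ω] [Finite G] {a : Ω}

theorem Cfg.uCent_trans (hc : Cfg G Ω a) (ht : TwoTrans G a) {b c : Ω} (hb : b ≠ a) (hca : c ≠ a) :
    ∃ m ∈ uCent G a, m • b = c := by
  classical
  obtain ⟨h₀, hh₀a, hh₀b⟩ := ht b c hb hca
  set φ := hc.conjHom
  have hker : φ.ker = (uCent G a).subgroupOf (stabilizer G a) :=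
    Subgroup.ext fun g => (hc.mem_ker_conjHom g).trans mem_subgroupOf.symm
  suffices hfac : ∀ g : stabilizer G a, ∃ m ∈ φ.ker, ∃ d : stabilizer G a, (d : G) • b = b ∧ g = m * d by
    obtain ⟨m, hm, d, hd, he⟩ := hfac ⟨h₀, hh₀a⟩
    refine ⟨(m : G), (hc.mem_ker_conjHom m).1 hm, ?_⟩
    rw [← hh₀b, show h₀ = (m : G) * (d : G) from congrArg Subtype.val he, mul_smul, hd]
  rcases subsingleton_or_nontrivial φ.range with hsub | hnon
  · intro g
    exact ⟨g, congrArg Subtype.val (Subsingleton.elim (φ.rangeRestrict g) 1), 1,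
      by rw [Subgroup.coe_one, one_smul], (mul_one g).symm⟩
  haveI : Finite φ.range := Finite.of_surjective _ φ.rangeRestrict_surjective
  have hodd : Odd (Nat.card φ.range) := by
    rw [← Subgroup.index_ker, hker]; exact hc.odd_cent
  haveI : Group.IsSolvable φ.range := Cfsg.Agent.S0205.result hodd
  obtain ⟨s, A, hs, hAn, hA1, hAp, hAc⟩ := exists_normal_elem (K := φ.range)
  haveI := hAn
  haveI := Fact.mk hs
  set ψ := φ.rangeRestrict
  have hψk : ψ.ker = φ.ker := φ.ker_rangeRestrict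
  -- no involution at `a` is fixed by `A`
  have hfix : ∀ z : hc.uSub, (∀ x ∈ A, (x : MulAut hc.uSub) z = z) → z = 1 := by
    intro z hz
    by_contra hz1
    refine hA1 ((Subgroup.eq_bot_iff_forall A).2 fun x hx => Subtype.ext (MulEquiv.ext fun w => ?_))
    rcases eq_or_ne w 1 with rfl | hw1
    · exact map_one _
    obtain ⟨h, hha, hhzw⟩ := hc.invol_conj ⟨b, hb⟩
      (hc.order_of_mem z.2 fun e => hz1 (Subtype.ext e)) z.2.2
      (hc.order_of_mem w.2 fun e => hw1 (Subtype.ext e)) w.2.2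
    have hw : φ ⟨h, hha⟩ z = w := Subtype.ext hhzw
    have h1 := hz _ (hAn.conj_mem x hx (ψ ⟨h, hha⟩)⁻¹)
    push_cast at h1
    rw [inv_inv, MulAut.mul_apply, MulAut.mul_apply, MulAut.inv_apply, MulEquiv.symm_apply_eq] at h1
    show (x : MulAut hc.uSub) w = w
    rw [← hw]
    exact h1
  -- `s` divides `q - 1`
  have hAU : ∀ x ∈ A, (x : MulAut hc.uSub) 1 = 1 := fun x _ => map_one _
  have hsq : ¬ s ∣ Nat.card hc.uSub := by
    intro h
    obtain ⟨k, hk⟩ := IsPGroup.iff_card.1
      (show IsPGroup 2 hc.uSub from fun g => ⟨1, Subtype.ext (by rw [pow_one, pow_two]; exact g.2.1)⟩)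
    rw [hk] at h
    have := (Nat.prime_dvd_prime_iff_eq hs Nat.prime_two).1 (hs.dvd_of_dvd_pow h)
    subst this
    obtain ⟨x, hx⟩ := exists_prime_orderOf_dvd_card' (G := A) (p := 2) (by
      obtain ⟨k, hk⟩ := IsPGroup.iff_card.1 hAp
      rw [hk]
      refine dvd_pow_self 2 ?_
      rintro rfl
      exact hA1 (Subgroup.card_eq_one.1 (by rw [hk, pow_zero])))
    have h2 : orderOf (x : φ.range) ∣ Nat.card φ.range := orderOf_dvd_natCard _
    rw [Subgroup.orderOf_coe, hx] at h2
    exact Nat.not_even_iff_odd.2 hodd (even_iff_two_dvd.2 h2)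
  letI : MulAction A hc.uSub :=
    { smul := fun x z => ((x : φ.range) : MulAut hc.uSub) z
      one_smul := fun _ => rfl
      mul_smul := fun _ _ _ => rfl }
  have hs1 : Nat.card hc.uSub ≡ 1 [MOD s] := by
    refine (hAp.card_modEq_card_fixedPoints hc.uSub).trans ?_
    rw [show Nat.card (fixedPoints A hc.uSub) = 1 from ?_]
    refine Nat.card_eq_one_iff_unique.2 ⟨⟨fun p r => ?_⟩, ⟨⟨1, fun x => hAU _ x.2⟩⟩⟩
    exact Subtype.ext ((hfix _ fun x hx => p.2 ⟨x, hx⟩).trans (hfix _ fun x hx => r.2 ⟨x, hx⟩).symm)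
  have hsdvd : s ∣ Nat.card hc.uSub - 1 :=
    (Nat.modEq_iff_dvd' Nat.card_pos).1 hs1.symm
  have hs2 : s ≠ 2 := by
    rintro rfl
    obtain ⟨k, hk⟩ := IsPGroup.iff_card.1 hAp
    have hk0 : k ≠ 0 := by
      rintro rfl
      exact hA1 (Subgroup.card_eq_one.1 (by rw [hk, pow_zero]))
    exact Nat.not_even_iff_odd.2 hodd (even_iff_two_dvd.2
      (dvd_trans (hk ▸ dvd_pow_self 2 hk0) (Subgroup.card_subgroup_dvd_card A)))
  -- a Sylow subgroup of the two-point stabiliser
  set Db : Subgroup (stabilizer G a) := (stabilizer G b).subgroupOf (stabilizer G a) with hDb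
  haveI : Finite hc.uSub := inferInstance
  have hqD : Nat.card hc.uSub - 1 ∣ Nat.card Db := by
    letI : MulAction Db {z : hc.uSub // z ≠ 1} :=
      { smul := fun d z => ⟨φ (d : stabilizer G a) z.1, fun e => z.2 ((φ (d : stabilizer G a)).injective
          (e.trans (map_one _).symm))⟩
        one_smul := fun z => Subtype.ext (show φ 1 z.1 = z.1 by rw [map_one]; rfl)
        mul_smul := fun x y z => Subtype.ext
          (show φ ((x : stabilizer G a) * y) z.1 = _ by rw [map_mul]; rfl) }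
    haveI : MulAction.IsPretransitive Db {z : hc.uSub // z ≠ 1} := ⟨fun z w => by
      obtain ⟨d, hda, hdb, hd⟩ := hc.twoStab_trans ht hb
        (hc.order_of_mem z.1.2 fun e => z.2 (Subtype.ext e)) z.1.2.2
        (hc.order_of_mem w.1.2 fun e => w.2 (Subtype.ext e)) w.1.2.2
      exact ⟨⟨⟨d, hda⟩, hdb⟩, Subtype.ext (Subtype.ext hd)⟩⟩
    obtain ⟨u, hu, hua⟩ := hc.exists_invol
    have hcard : Nat.card {z : hc.uSub // z ≠ 1} = Nat.card hc.uSub - 1 := by
      haveI := Fintype.ofFinite hc.uSub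
      simp [Nat.card_eq_fintype_card, Fintype.card_subtype_compl]
    rw [← hcard, ← MulAction.index_stabilizer_of_transitive Db
      (⟨⟨u, hc.invol_mem_uSub hu hua⟩, fun e => Invol.ne_one hu (congrArg Subtype.val e)⟩ :
        {z : hc.uSub // z ≠ 1})]
    exact Subgroup.index_dvd_card _
  obtain ⟨P₀⟩ : Nonempty (Sylow s Db) := inferInstance
  set P : Subgroup (stabilizer G a) := (P₀ : Subgroup Db).map Db.subtype with hP
  -- it fixes two points only
  have honly : ∀ {T : Subgroup (stabilizer G a)}, IsPGroup s T →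
      (∀ z : hc.uSub, (∀ x ∈ T, φ x z = z) → z = 1) → (∀ x ∈ T, (x : G) • b = b) →
      ∀ e : Ω, (∀ x ∈ T, (x : G) • e = e) → e = a ∨ e = b := by
    intro T hT hTfix hTb e hTe
    by_contra hcon
    push Not at hcon
    set T' := T.map (stabilizer G a).subtype
    have haT : a ∈ fixSet Ω T' := by rintro _ ⟨x, -, rfl⟩; exact x.2
    have hbT : b ∈ fixSet Ω T' := by rintro _ ⟨x, hx, rfl⟩; exact hTb x hx
    have heT : e ∈ fixSet Ω T' := by rintro _ ⟨x, hx, rfl⟩; exact hTe x hx
    obtain ⟨v, hv, hva, hvT⟩ := hc.all_good ht hs2 (hT.map _) haT hbT heT hb.symm hcon.1.symm hcon.2.symm haT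
    have := hTfix ⟨v, hc.invol_mem_uSub hv hva⟩ fun x hx => Subtype.ext (by
      show (x : G) * v * (x : G)⁻¹ = v
      rw [mem_centralizer_iff.1 hvT (x : G) ⟨x, hx, rfl⟩, mul_inv_cancel_right])
    exact Invol.ne_one hv (congrArg Subtype.val this)
  have hPfix : ∀ z : hc.uSub, (∀ x ∈ P, φ x z = z) → z = 1 := by
    intro z hz
    by_contra hz1
    let C : Subgroup Db :=
      { carrier := {d | φ (d : stabilizer G a) z = z}
        one_mem' := show φ 1 z = z by rw [map_one]; rfl
        mul_mem' := fun {x y} hx hy => by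
          show φ ((x : stabilizer G a) * y) z = z
          rw [map_mul, MulAut.mul_apply]
          rw [show φ (y : stabilizer G a) z = z from hy, show φ (x : stabilizer G a) z = z from hx]
        inv_mem' := fun {x} hx => by
          show φ ((x : stabilizer G a))⁻¹ z = z
          rw [map_inv, MulAut.inv_apply, MulEquiv.symm_apply_eq]
          exact (show φ (x : stabilizer G a) z = z from hx).symm }
    have hle : (P₀ : Subgroup Db) ≤ C := fun d hd => hz _ ⟨d, hd, rfl⟩
    letI : MulAction Db {w : hc.uSub // w ≠ 1} :=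
      { smul := fun d z => ⟨φ (d : stabilizer G a) z.1, fun e => z.2 ((φ (d : stabilizer G a)).injective
          (e.trans (map_one _).symm))⟩
        one_smul := fun z => Subtype.ext (show φ 1 z.1 = z.1 by rw [map_one]; rfl)
        mul_smul := fun x y z => Subtype.ext
          (show φ ((x : stabilizer G a) * y) z.1 = _ by rw [map_mul]; rfl) }
    haveI : MulAction.IsPretransitive Db {w : hc.uSub // w ≠ 1} := ⟨fun z w => by
      obtain ⟨d, hda, hdb, hd⟩ := hc.twoStab_trans ht hb
        (hc.order_of_mem z.1.2 fun e => z.2 (Subtype.ext e)) z.1.2.2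
        (hc.order_of_mem w.1.2 fun e => w.2 (Subtype.ext e)) w.1.2.2
      exact ⟨⟨⟨d, hda⟩, hdb⟩, Subtype.ext (Subtype.ext hd)⟩⟩
    have hidx : C.index = Nat.card hc.uSub - 1 := by
      have hcard : Nat.card {w : hc.uSub // w ≠ 1} = Nat.card hc.uSub - 1 := by
        haveI := Fintype.ofFinite hc.uSub
        simp [Nat.card_eq_fintype_card, Fintype.card_subtype_compl]
      rw [← hcard, ← MulAction.index_stabilizer_of_transitive Db (⟨z, hz1⟩ : {w : hc.uSub // w ≠ 1})]
      congr 1
      ext d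
      exact ⟨fun h => Subtype.ext h, fun h => congrArg Subtype.val h⟩
    exact P₀.not_dvd_index (dvd_trans hsdvd (hidx ▸ Subgroup.index_dvd_of_le hle))
  have hPb : ∀ x ∈ P, (x : G) • b = b := by rintro _ ⟨d, -, rfl⟩; exact d.2
  obtain ⟨S, hS⟩ := (P₀.isPGroup'.map Db.subtype).exists_le_sylow
  have hSP : (S : Subgroup (stabilizer G a)) = P := by
    by_contra hne
    haveI := S.isPGroup'.isNilpotent
    have hlt' : P.subgroupOf (S : Subgroup (stabilizer G a)) < ⊤ := by
      rw [lt_top_iff_ne_top, Ne, subgroupOf_eq_top]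
      exact fun h => hne (le_antisymm h hS)
    obtain ⟨g, hg, hgn⟩ := SetLike.exists_of_lt (Group.normalizerCondition_of_isNilpotent _ hlt')
    have hgb : ((g : stabilizer G a) : G) • b = b := by
      refine (honly (P₀.isPGroup'.map _) hPfix hPb _ fun x hx => ?_).resolve_left fun e =>
        hb (smul_left_cancel _ (e.trans (g : stabilizer G a).2.symm))
      have h1 := (mem_normalizer_iff''.1 hg ⟨x, hS hx⟩).1 hx
      have h2 := hPb _ h1
      simp only [Subgroup.coe_subtype, Subgroup.coe_mul, Subgroup.coe_inv] at h2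
      rw [mul_smul, mul_smul, inv_smul_eq_iff] at h2
      exact h2
    have hle : (P₀ : Subgroup Db) ≤ (S : Subgroup (stabilizer G a)).subgroupOf Db :=
      fun d hd => hS ⟨d, hd, rfl⟩
    have heq := P₀.3 (S.isPGroup'.comap_subtype (K := Db)) hle
    refine hgn ?_
    have hmem : (⟨(g : stabilizer G a), hgb⟩ : Db) ∈ (P₀ : Subgroup Db) := by
      rw [← heq]; exact g.2
    exact ⟨_, hmem, rfl⟩
  -- the Sylow subgroup of the preimage of `A`
  set N := A.comap ψ
  have hkN : φ.ker ≤ N := fun x hx => by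
    show ψ x ∈ A
    rw [MonoidHom.mem_ker.1 (hψk ▸ hx)]; exact one_mem A
  set Q' := (S : Subgroup (stabilizer G a)) ⊓ N with hQ'
  have hQA : Q'.map ψ = A := by
    refine le_antisymm (map_le_iff_le_comap.2 inf_le_right) ?_
    have h1 := relIndex_map_map ψ Q' N
    rw [map_comap_eq_self_of_surjective φ.rangeRestrict_surjective A, hψk, sup_eq_left.2 hkN] at h1
    have h2 : (Q'.map ψ).relIndex A ∣ Q'.relIndex N := h1 ▸ relIndex_dvd_of_le_left _ le_sup_left
    obtain ⟨k, hk⟩ := IsPGroup.iff_card.1 hAp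
    have h3 : (Q'.map ψ).relIndex A ∣ s ^ k := hk ▸ Subgroup.relIndex_dvd_card _ _
    have h4 : (Q'.map ψ).relIndex A = 1 := by
      refine Nat.eq_one_of_dvd_coprimes ?_ h2 h3
      exact ((hs.coprime_iff_not_dvd.2 (not_dvd_relIndex_inf S N)).pow_left k).symm
    exact Subgroup.relIndex_eq_one.1 h4
  have hQfix : ∀ z : hc.uSub, (∀ x ∈ Q', φ x z = z) → z = 1 := fun z hz => hfix z fun x hx => by
    rw [← hQA] at hx
    obtain ⟨y, hy, rfl⟩ := hx
    exact hz y hy
  have hQb : ∀ x ∈ Q', (x : G) • b = b := fun x hx => hPb x (hSP ▸ hx.1)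
  have hQp : IsPGroup s Q' := S.isPGroup'.to_le inf_le_left
  let T : Sylow s N := (hQp.comap_subtype (K := N)).toSylow (not_dvd_relIndex_inf S N)
  have hTQ : ((T : Subgroup N).map N.subtype) = Q' := by
    show (Q'.subgroupOf N).map N.subtype = Q'
    rw [subgroupOf_map_subtype, inf_eq_left.2 inf_le_right]
  intro g
  have htop := T.normalizer_sup_eq_top
  rw [hTQ] at htop
  have hg : g ∈ Subgroup.normalizer (Q' : Set (stabilizer G a)) ⊔ N := htop ▸ mem_top g
  rw [sup_comm, ← SetLike.mem_coe, Subgroup.normal_mul] at hg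
  obtain ⟨x, hx, d, hd, rfl⟩ := hg
  have hdb : (d : G) • b = b := by
    refine (honly hQp hQfix hQb _ fun y hy => ?_).resolve_left fun e =>
      hb (smul_left_cancel _ (e.trans d.2.symm))
    have h2 := hQb _ ((mem_normalizer_iff''.1 hd y).1 hy)
    push_cast at h2
    rw [mul_smul, mul_smul, inv_smul_eq_iff] at h2
    exact h2
  have hxA : ψ x ∈ A := hx
  rw [← hQA] at hxA
  obtain ⟨y, hy, hyx⟩ := hxA
  refine ⟨x * y⁻¹, ?_, y * d, ?_, by rw [← mul_assoc, inv_mul_cancel_right]⟩
  · rw [← hψk, MonoidHom.mem_ker, map_mul, map_inv, hyx, mul_inv_cancel]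
  · rw [Subgroup.coe_mul, mul_smul, hdb, hQb y hy]

end Cfsg.Agent.SERegular
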