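import Cfsg.Agent.Lib.SERegular.Defs
import Mathlib.GroupTheory.GroupAction.Quotient
import Mathlib.GroupTheory.QuotientGroup.Basic

/-!
# Basic consequences of two-fold transitivity
-/

set_option autoImplicit false
set_option linter.unusedSectionVars false
set_option linter.style.haveILetI false

namespace Cfsg.Agent.SERegular

open MulAction Subgroup

universe u v

variable {G : Type u} {Ω : Type v} [Group G] [MulAction G Ω] {a : Ω}

/-- Two involutions with product of odd order are conjugate by a power of the product. -/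
theorem conj_zpowers [Finite G] {x y : G} (hx : orderOf x = 2) (hy : orderOf y = 2)
    (hodd : Odd (orderOf (x * y))) : ∃ d ∈ zpowers (x * y), d * x * d⁻¹ = y := by
  obtain ⟨m, hm⟩ := hodd
  refine ⟨(x * y) ^ (m : ℤ), ⟨_, rfl⟩, ?_⟩
  rw [Invol.zpow_mul_conj (Invol.conj_mul hx hy)]
  conv_rhs => rw [Invol.y_eq hx hy]
  congr 1
  have h1 : (x * y) ^ (2 * (m : ℤ) + 1) = 1 := by
    have := pow_orderOf_eq_one (x * y)
    rw [hm, ← zpow_natCast] at this
    push_cast at this; exact this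
  rw [zpow_add, zpow_one] at h1
  rw [zpow_neg_one]
  exact mul_eq_one_iff_eq_inv.mp h1

namespace Cfg

variable (hc : Cfg G Ω a)
include hc

/-- The involutions fixing `a`, with `1`. -/
def uSub : Subgroup G where
  carrier := {g | g * g = 1 ∧ g • a = a}
  one_mem' := ⟨one_mul 1, one_smul G a⟩
  inv_mem' := fun {x} hx => by
    rw [Set.mem_ofPred_eq] at hx ⊢
    rw [inv_eq_of_mul_eq_one_right hx.1]
    exact hx
  mul_mem' := fun {x y} hx hy => by
    rw [Set.mem_ofPred_eq] at hx hy ⊢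
    refine ⟨?_, by rw [mul_smul, hy.2, hx.2]⟩
    rcases eq_or_ne x 1 with rfl | h1
    · rw [one_mul]; exact hy.1
    rcases eq_or_ne y 1 with rfl | h2
    · rw [mul_one]; exact hx.1
    have := hc.comm x y (Invol.order_two_of_sq hx.1 h1) (Invol.order_two_of_sq hy.1 h2) hx.2 hy.2
    calc x * y * (x * y) = x * (y * x) * y := by group
      _ = x * x * (y * y) := by rw [← this]; group
      _ = 1 := by rw [hx.1, hy.1, one_mul]

theorem mem_uSub {g : G} : g ∈ hc.uSub ↔ g * g = 1 ∧ g • a = a := Iff.rfl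

theorem invol_mem_uSub {g : G} (h : orderOf g = 2) (ha : g • a = a) : g ∈ hc.uSub :=
  ⟨Invol.mul_self h, ha⟩

theorem order_of_mem {g : G} (h : g ∈ hc.uSub) (h1 : g ≠ 1) : orderOf g = 2 :=
  Invol.order_two_of_sq h.1 h1

theorem uSub_comm {x y : G} (hx : x ∈ hc.uSub) (hy : y ∈ hc.uSub) : x * y = y * x := by
  rcases eq_or_ne x 1 with rfl | h1
  · rw [one_mul, mul_one]
  rcases eq_or_ne y 1 with rfl | h2
  · rw [one_mul, mul_one]
  exact hc.comm x y (hc.order_of_mem hx h1) (hc.order_of_mem hy h2) hx.2 hy.2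

theorem uSub_le : hc.uSub ≤ stabilizer G a := fun _ hg => hg.2

theorem uSub_conj {g u : G} (hg : g • a = a) (hu : u ∈ hc.uSub) : g * u * g⁻¹ ∈ hc.uSub := by
  refine ⟨?_, by rw [mul_smul, mul_smul, inv_smul_eq_iff.2 hg.symm, hu.2, hg]⟩
  calc g * u * g⁻¹ * (g * u * g⁻¹) = g * (u * u) * g⁻¹ := by group
    _ = 1 := by rw [hu.1, mul_one, mul_inv_cancel]

theorem uSub_le_uCent : hc.uSub ≤ uCent G a := fun g hg =>
  mem_uCent.2 ⟨hg.2, fun t ht hta => hc.uSub_comm (hc.invol_mem_uSub ht hta) hg⟩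

variable [Finite G]

theorem four_le : 4 ≤ Nat.card hc.uSub := by
  classical
  obtain ⟨s, t, hs, ht, hsa, hta, hne⟩ := hc.four
  have h1 := hc.invol_mem_uSub hs hsa
  have h2 := hc.invol_mem_uSub ht hta
  let f : Fin 4 → hc.uSub := ![1, ⟨s, h1⟩, ⟨t, h2⟩, ⟨s, h1⟩ * ⟨t, h2⟩]
  have hst : s * t ≠ 1 := fun e => hne (by
    rw [mul_eq_one_iff_eq_inv, Invol.inv_self ht] at e; exact e)
  have hinj : Function.Injective f := by
    intro i j h
    have h' := congrArg Subtype.val h
    fin_cases i <;> fin_cases j <;> simp [f] at h' ⊢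
    all_goals first
      | exact Invol.ne_one hs h'
      | exact Invol.ne_one hs h'.symm
      | exact Invol.ne_one ht h'
      | exact Invol.ne_one ht h'.symm
      | exact hne h'
      | exact hne h'.symm
      | exact hst h'
      | exact hst h'.symm
  simpa using Nat.card_le_card_of_injective f hinj

variable (ht : TwoTrans G a)
include ht

theorem exists_smul_pair {b c b' c' : Ω} (h : b ≠ c) (h' : b' ≠ c') : ∃ g : G, g • b = b' ∧ g • c = c' := by
  have := hc.pretrans
  obtain ⟨g, hg⟩ := exists_smul_eq G b a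
  obtain ⟨g', hg'⟩ := exists_smul_eq G b' a
  obtain ⟨k, hk, hkc⟩ := ht (g • c) (g' • c') (fun e => h (by rw [← hg] at e; exact (smul_left_cancel g e).symm))
    (fun e => h' (by rw [← hg'] at e; exact (smul_left_cancel g' e).symm))
  refine ⟨g'⁻¹ * (k * g), ?_, ?_⟩
  · rw [mul_smul, mul_smul, hg, hk, inv_smul_eq_iff, hg']
  · rw [mul_smul, mul_smul, hkc, inv_smul_smul]

theorem exists_swapper {b c : Ω} (hbc : b ≠ c) : ∃ v : G, orderOf v = 2 ∧ v • b = c ∧ v • c = b := by
  obtain ⟨u, hu, hua⟩ := hc.exists_invol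
  obtain ⟨x, hxa⟩ : ∃ x : Ω, x ≠ a := by
    by_cases h : b = a
    · exact ⟨c, fun e => hbc (h.trans e.symm)⟩
    · exact ⟨b, h⟩
  have hux := hc.invol_semiregular hu hua hxa
  obtain ⟨g, hgb, hgc⟩ := hc.exists_smul_pair ht hux.symm hbc
  refine ⟨g * u * g⁻¹, (Invol.order_conj g u).trans hu, ?_, ?_⟩
  · rw [← hgb, mul_smul, inv_smul_smul, mul_smul, hgc]
  · rw [← hgc, mul_smul, inv_smul_smul, mul_smul, ← mul_smul u u, Invol.mul_self hu, one_smul, hgb]

/-- The centraliser of an involution fixing `a` is transitive on the other points. -/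
theorem cent_trans {u : G} (hu : orderOf u = 2) (hua : u • a = a) {b c : Ω} (hb : b ≠ a) (hca : c ≠ a) :
    ∃ h : G, h • a = a ∧ h * u = u * h ∧ h • b = c := by
  have hub := hc.invol_semiregular hu hua hb
  have huc := hc.invol_semiregular hu hua hca
  obtain ⟨g, hgb, hgub⟩ := hc.exists_smul_pair ht hub.symm huc.symm
  have h1 : orderOf (g * u * g⁻¹) = 2 := (Invol.order_conj g u).trans hu
  have huu : ∀ x : Ω, u • u • x = x := fun x => by rw [← mul_smul, Invol.mul_self hu, one_smul]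
  have hv1 : (g * u * g⁻¹) • c = u • c := by
    rw [← hgub, mul_smul, mul_smul, ← hgb, inv_smul_smul]
  have hv2 : (g * u * g⁻¹) • (u • c) = c := by
    rw [← hgub, mul_smul, inv_smul_smul, mul_smul, huu, hgb]
  have hd : g * u * g⁻¹ * u ∈ stabilizer G c ⊓ stabilizer G (u • c) := by
    refine ⟨?_, ?_⟩
    · show (g * u * g⁻¹ * u) • c = c
      rw [mul_smul, hv2]
    · show (g * u * g⁻¹ * u) • (u • c) = u • c
      rw [mul_smul, huu, hv1]
  have hodd : Odd (orderOf (g * u * g⁻¹ * u)) :=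
    (hc.stab_inf_odd huc.symm).of_dvd_nat (Subgroup.orderOf_dvd_natCard _ hd)
  obtain ⟨k, hk, hkuv⟩ := conj_zpowers h1 hu hodd
  have hkc : k • c = c := (zpowers_le.2 hd hk).1
  have hcomm : k * g * u = u * (k * g) := by
    have : k * (g * u * g⁻¹) * k⁻¹ * (k * g) = u * (k * g) := by rw [hkuv]
    rw [← this]; group
  exact ⟨k * g, hc.fix_of_commute hu hua hcomm, hcomm, by rw [mul_smul, hgb, hkc]⟩

omit ht in
/-- The stabiliser is transitive on its involutions. -/
theorem invol_conj (hne : ∃ c : Ω, c ≠ a) {u v : G} (hu : orderOf u = 2) (hua : u • a = a) (hv : orderOf v = 2)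
    (hva : v • a = a) : ∃ h : G, h • a = a ∧ h * u * h⁻¹ = v := by
  obtain ⟨c, hca⟩ := hne
  obtain ⟨w, hw, hwc⟩ := hc.exists_invol_at c
  have hodd : ∀ {u : G}, orderOf u = 2 → u • a = a → Odd (orderOf (u * w)) := by
    intro u hu hua
    by_contra h
    rw [Nat.not_odd_iff_even] at h
    obtain ⟨m, hm⟩ := h
    have hpos : 0 < orderOf (u * w) := orderOf_pos _
    have hz : orderOf ((u * w) ^ m) = 2 := by
      refine Invol.order_two_of_sq ?_ fun h => ?_
      · rw [← pow_add, ← hm, pow_orderOf_eq_one]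
      · have := Nat.le_of_dvd (by omega) (orderOf_dvd_of_pow_eq_one h); omega
    have hx := Invol.conj_pow (Invol.conj_mul hu hw) m
    rw [Invol.inv_self hz, mul_inv_eq_iff_eq_mul] at hx
    have h2 : Commute ((u * w) ^ m) (u * (u * w)) :=
      Commute.mul_right hx.symm (Commute.self_pow (u * w) m).symm
    rw [← mul_assoc u u w, Invol.mul_self hu, one_mul] at h2
    exact hca (hc.fix_eq hz (hc.fix_of_commute hw hwc h2.eq) (hc.fix_of_commute hu hua hx.symm))
  obtain ⟨d, -, hd⟩ := conj_zpowers hu hw (hodd hu hua)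
  obtain ⟨e, -, he⟩ := conj_zpowers hv hw (hodd hv hva)
  have hh : e⁻¹ * d * u * (e⁻¹ * d)⁻¹ = v := by
    calc e⁻¹ * d * u * (e⁻¹ * d)⁻¹ = e⁻¹ * (d * u * d⁻¹) * e := by group
      _ = e⁻¹ * (e * v * e⁻¹) * e := by rw [hd, he]
      _ = v := by group
  refine ⟨e⁻¹ * d, hc.fix_eq hv ?_ hva, hh⟩
  rw [← hh, mul_smul, inv_smul_smul, mul_smul, hua]

/-- A two-point stabiliser is transitive on the involutions fixing the first point. -/
theorem twoStab_trans {b : Ω} (hb : b ≠ a) {u v : G} (hu : orderOf u = 2) (hua : u • a = a)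
    (hv : orderOf v = 2) (hva : v • a = a) : ∃ d : G, d • a = a ∧ d • b = b ∧ d * u * d⁻¹ = v := by
  obtain ⟨h, hha, hhuv⟩ := hc.invol_conj ⟨b, hb⟩ hu hua hv hva
  have hbb : h • b ≠ a := fun e => hb (smul_left_cancel h (e.trans hha.symm))
  obtain ⟨k, hka, hkc, hkb⟩ := hc.cent_trans ht hv hva hbb hb
  refine ⟨k * h, by rw [mul_smul, hha, hka], by rw [mul_smul, hkb], ?_⟩
  calc k * h * u * (k * h)⁻¹ = k * (h * u * h⁻¹) * k⁻¹ := by group
    _ = v := by rw [hhuv, hkc, mul_inv_cancel_right]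

end Cfg

end Cfsg.Agent.SERegular
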