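import Cfsg.Agent.Lib.SERegular.Basic
import Cfsg.Agent.Lib.SEBrick.Basic
import Cfsg.Agent.Lib.Solvable.Coprime
import Cfsg.Agent.Lib.BrauerSuzuki.Main
import Mathlib.GroupTheory.Sylow
import Mathlib.GroupTheory.Nilpotent

/-!
# Fixed points of subgroups of odd prime-power order

A nontrivial `l`-subgroup fixing three points centralises an involution at each of its fixed points.
-/

set_option autoImplicit false
set_option linter.unusedSectionVars false
set_option linter.style.haveILetI false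

namespace Cfsg.Agent.SERegular

open MulAction Subgroup

universe u v

/-- If each point is the only fixed point of some `l`-subgroup, the group is transitive. -/
theorem gleason {A X : Type*} [Group A] [MulAction A X] [Finite X] {l : ℕ} [Fact l.Prime]
    (h : ∀ x : X, ∃ P : Subgroup A, IsPGroup l P ∧ (∀ p ∈ P, p • x = x) ∧
      ∀ y, (∀ p ∈ P, p • y = y) → y = x) (x y : X) : ∃ g : A, g • x = y := by
  by_contra hxy
  obtain ⟨P, hP, hPx, hPu⟩ := h x
  obtain ⟨R, hR, -, hRu⟩ := h y
  have h1 : Nat.card (orbit A x) ≡ 1 [MOD l] := by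
    refine (hP.card_modEq_card_fixedPoints (orbit A x)).trans ?_
    rw [show Nat.card (fixedPoints P (orbit A x)) = 1 from ?_]
    refine Nat.card_eq_one_iff_unique.2 ⟨⟨fun s t => ?_⟩, ⟨⟨⟨x, mem_orbit_self x⟩, fun p =>
      Subtype.ext (hPx p p.2)⟩⟩⟩
    have key : ∀ s : fixedPoints P (orbit A x), ((s : orbit A x) : X) = x := fun s =>
      hPu _ fun p hp => congrArg Subtype.val (s.2 ⟨p, hp⟩)
    exact Subtype.ext (Subtype.ext ((key s).trans (key t).symm))
  have h0 : Nat.card (orbit A x) ≡ 0 [MOD l] := by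
    refine (hR.card_modEq_card_fixedPoints (orbit A x)).trans ?_
    rw [show Nat.card (fixedPoints R (orbit A x)) = 0 from ?_]
    haveI : IsEmpty (fixedPoints R (orbit A x)) := ⟨fun s => hxy (by
      obtain ⟨g, hg⟩ := (s : orbit A x).2
      exact ⟨g, hg.trans (hRu _ fun p hp => congrArg Subtype.val (s.2 ⟨p, hp⟩))⟩)⟩
    exact Nat.card_of_isEmpty
  have := h1.symm.trans h0
  rw [Nat.modEq_zero_iff_dvd, Nat.dvd_one] at this
  exact (Fact.out : l.Prime).ne_one this

variable {G : Type u} {Ω : Type v} [Group G] [MulAction G Ω] {a : Ω}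

/-- The fixed points of a subgroup. -/
def fixSet (Ω : Type v) [MulAction G Ω] (T : Subgroup G) : Set Ω := {c | ∀ g ∈ T, g • c = c}

/-- An involution at `c` centralises `T`. -/
def Good (T : Subgroup G) (c : Ω) : Prop :=
  ∃ v : G, orderOf v = 2 ∧ v • c = c ∧ v ∈ centralizer (T : Set G)

theorem Good.mono {T T' : Subgroup G} (h : T ≤ T') {c : Ω} (hg : Good T' c) : Good T c := by
  obtain ⟨v, hv, hvc, hvT⟩ := hg
  exact ⟨v, hv, hvc, centralizer_le h hvT⟩

theorem smul_fixSet {T : Subgroup G} {n : G} (hn : n ∈ normalizer (T : Set G)) {c : Ω}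
    (hc : c ∈ fixSet Ω T) : n • c ∈ fixSet Ω T := fun g hg => by
  have h := hc _ ((mem_normalizer_iff''.1 hn g).1 hg)
  rw [mul_smul, mul_smul, inv_smul_eq_iff] at h
  exact h

theorem Good.smul {T : Subgroup G} {n : G} (hn : n ∈ normalizer (T : Set G)) {c : Ω} (hg : Good T c) :
    Good T (n • c) := by
  obtain ⟨v, hv, hvc, hvT⟩ := hg
  refine ⟨n * v * n⁻¹, (Invol.order_conj n v).trans hv, by rw [mul_smul, inv_smul_smul, mul_smul, hvc],
    mem_centralizer_iff.2 fun g hg => ?_⟩
  have h := mem_centralizer_iff.1 hvT _ ((mem_normalizer_iff''.1 hn g).1 hg)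
  calc g * (n * v * n⁻¹) = n * (n⁻¹ * g * n * v) * n⁻¹ := by group
    _ = n * (v * (n⁻¹ * g * n)) * n⁻¹ := by rw [h]
    _ = _ := by group

namespace Cfg

variable [Finite G] (hc : Cfg G Ω a)
include hc

/-- Two commuting involutions normalising an odd subgroup: it fixes their fixed point. -/
theorem fix_of_four {T : Subgroup G} (hT : Odd (Nat.card T)) {v w : G} (hv : orderOf v = 2)
    (hw : orderOf w = 2) (hvw : v * w = w * v) (hne : v ≠ w) (hvT : v ∈ normalizer (T : Set G))
    (hwT : w ∈ normalizer (T : Set G)) {d : Ω} (hvd : v • d = d) : d ∈ fixSet Ω T := by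
  classical
  have hwd : w • d = d := hc.fix_of_commute hv hvd hvw.symm
  have hvv := Invol.mul_self hv
  have hww := Invol.mul_self hw
  let E : Subgroup G :=
    { carrier := {g | g = 1 ∨ g = v ∨ g = w ∨ g = v * w}
      one_mem' := Or.inl rfl
      mul_mem' := fun {x y} hx hy => by
        rw [Set.mem_ofPred_eq] at hx hy ⊢
        have e1 : v * (v * w) = w := by rw [← mul_assoc, hvv, one_mul]
        have e2 : w * (v * w) = v := by rw [hvw, ← mul_assoc, hww, one_mul]
        have e3 : v * w * v = w := by rw [hvw, mul_assoc, hvv, mul_one]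
        have e4 : v * w * w = v := by rw [mul_assoc, hww, mul_one]
        have e5 : v * w * (v * w) = 1 := by rw [mul_assoc v w, e2, hvv]
        rcases hx with rfl | rfl | rfl | rfl <;> rcases hy with rfl | rfl | rfl | rfl <;>
          simp only [one_mul, mul_one, hvv, hww, e1, e2, e3, e4, e5, ← hvw] <;> tauto
      inv_mem' := fun {x} hx => by
        rw [Set.mem_ofPred_eq] at hx ⊢
        rcases hx with rfl | rfl | rfl | rfl
        · simp
        · simp [Invol.inv_self hv]
        · simp [Invol.inv_self hw]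
        · simp [Invol.inv_self hw, Invol.inv_self hv, ← hvw] }
  have hmem : ∀ e ∈ E, e • d = d := by
    rintro e (rfl | rfl | rfl | rfl)
    · exact one_smul G d
    · exact hvd
    · exact hwd
    · rw [mul_smul, hwd, hvd]
  have hvwne : v * w ≠ 1 := fun e => hne (by
    rw [mul_eq_one_iff_eq_inv, Invol.inv_self hw] at e; exact e)
  have hvwo : orderOf (v * w) = 2 := by
    refine Invol.order_two_of_sq ?_ hvwne
    calc v * w * (v * w) = v * (w * v) * w := by group
      _ = v * v * (w * w) := by rw [← hvw]; group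
      _ = 1 := by rw [hvv, hww, one_mul]
  have hE2 : ∀ e ∈ E, e ≠ 1 → orderOf e = 2 := by
    rintro e (rfl | rfl | rfl | rfl) h
    · exact absurd rfl h
    · exact hv
    · exact hw
    · exact hvwo
  have hcomm : IsMulCommutative E := .of_setLike_mul_comm fun x hx y hy => by
    rcases eq_or_ne x 1 with rfl | h1
    · rw [one_mul, mul_one]
    rcases eq_or_ne y 1 with rfl | h2
    · rw [one_mul, mul_one]
    exact hc.comm_at (hE2 x hx h1) (hE2 y hy h2) (hmem x hx) (hmem y hy)
  have hfour : SEBrick.IsFour E := by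
    refine ⟨⟨hcomm, fun e he => ?_⟩, ?_⟩
    · rcases eq_or_ne e 1 with rfl | h1
      · exact one_pow 2
      · rw [← hE2 e he h1, pow_orderOf_eq_one]
    · have hsub : ({1, v, w, v * w} : Finset G) ⊆ (E : Set G).toFinite.toFinset := fun x hx => by
        simp only [Finset.mem_insert, Finset.mem_singleton] at hx
        exact (Set.Finite.mem_toFinset _).2 hx
      have hc4 : ({1, v, w, v * w} : Finset G).card = 4 := by
        rw [Finset.card_insert_of_notMem, Finset.card_insert_of_notMem, Finset.card_insert_of_notMem,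
          Finset.card_singleton]
        · simp only [Finset.mem_singleton]
          intro e
          exact Invol.ne_one hv (mul_right_cancel (b := w) (by rw [one_mul]; exact e.symm))
        · simp only [Finset.mem_insert, Finset.mem_singleton]
          rintro (e | e)
          · exact hne e
          · exact Invol.ne_one hw (mul_left_cancel (a := v) (by rw [mul_one]; exact e.symm))
        · simp only [Finset.mem_insert, Finset.mem_singleton]
          rintro (e | e | e)
          · exact Invol.ne_one hv e.symm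
          · exact Invol.ne_one hw e.symm
          · exact hvwne e.symm
      have := Finset.card_le_card hsub
      rw [hc4, ← Nat.card_eq_card_finite_toFinset] at this
      exact this
  have hEN : E ≤ normalizer (T : Set G) := by
    rintro e (rfl | rfl | rfl | rfl)
    · exact one_mem _
    · exact hvT
    · exact hwT
    · exact mul_mem hvT hwT
  have hcop : (Nat.card E).Coprime (Nat.card T) := by
    obtain ⟨n, hn⟩ := (IsPGroup.iff_card (p := 2)).1 hfour.isPGroup
    rw [hn]; exact (Nat.coprime_two_left.2 hT).pow_left n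
  intro g hg
  have hle : T ≤ stabilizer G d := by
    rw [← CoprimeAct.generated_by_centralizers hfour.not_isCyclic hEN hcop]
    refine iSup₂_le fun e he x hx => ?_
    exact hc.fix_of_commute (hE2 e he.1 he.2) (hmem e he.1) (mem_centralizer_singleton_iff.1 hx.2)
  exact hle hg

/-- An involution normalising `T` and fixing one of its points centralises it. -/
theorem invol_cent {T : Subgroup G} (hT : Odd (Nat.card T)) {v : G} (hv : orderOf v = 2) {c : Ω}
    (hvc : v • c = c) (hvT : v ∈ normalizer (T : Set G)) (hcT : c ∈ fixSet Ω T) :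
    v ∈ centralizer (T : Set G) := by
  refine mem_centralizer_iff.2 fun g hg => ?_
  have hgc := hcT g hg
  have hw : orderOf (g * v * g⁻¹) = 2 := (Invol.order_conj g v).trans hv
  have hwc : (g * v * g⁻¹) • c = c := by
    rw [mul_smul, inv_smul_eq_iff.2 hgc.symm, mul_smul, hvc, hgc]
  have hcm := hc.comm_at hv hw hvc hwc
  have hx : v * (g * v * g⁻¹) ∈ T := by
    have h1 : v * g * v⁻¹ ∈ T := (mem_normalizer_iff.1 hvT g).1 hg
    rw [Invol.inv_self hv] at h1
    rw [show v * (g * v * g⁻¹) = v * g * v * g⁻¹ by group]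
    exact mul_mem h1 (inv_mem hg)
  have hsq : (v * (g * v * g⁻¹)) ^ 2 = 1 := by
    rw [pow_two]
    calc v * (g * v * g⁻¹) * (v * (g * v * g⁻¹)) = v * ((g * v * g⁻¹) * v) * (g * v * g⁻¹) := by group
      _ = v * v * ((g * v * g⁻¹) * (g * v * g⁻¹)) := by rw [← hcm]; group
      _ = 1 := by rw [Invol.mul_self hv, Invol.mul_self hw, one_mul]
  have h1 : v * (g * v * g⁻¹) = 1 := orderOf_eq_one_iff.1 (Nat.eq_one_of_dvd_coprimes
    (Nat.coprime_two_left.2 hT) (orderOf_dvd_of_pow_eq_one hsq) (Subgroup.orderOf_dvd_natCard _ hx))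
  rw [mul_eq_one_iff_inv_eq, Invol.inv_self hv] at h1
  conv_rhs => rw [h1]
  group

variable (ht : TwoTrans G a)
include ht

/-- A nontrivial `l`-subgroup fixing three points centralises an involution at each fixed point. -/
theorem all_good {l : ℕ} [Fact l.Prime] (hl2 : l ≠ 2) {T : Subgroup G} (hTp : IsPGroup l T)
    {x y z : Ω} (hx : x ∈ fixSet Ω T) (hy : y ∈ fixSet Ω T) (hz : z ∈ fixSet Ω T) (hxy : x ≠ y)
    (hxz : x ≠ z) (hyz : y ≠ z) {c₀ : Ω} (hc₀ : c₀ ∈ fixSet Ω T) : Good T c₀ := by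
  classical
  induction hn : Nat.card G - Nat.card T using Nat.strong_induction_on
    generalizing T x y z c₀ with
  | _ n ih =>
  haveI := hc.finite_points
  have hTodd : Odd (Nat.card T) := by
    obtain ⟨k, hk⟩ := IsPGroup.iff_card.1 hTp
    rw [hk]; exact ((Fact.out : l.Prime).odd_of_ne_two hl2).pow
  set N := normalizer (T : Set G) with hNdef
  -- an `l`-subgroup of the normaliser with exactly two fixed points
  have hpair : ∀ c ∈ fixSet Ω T, ¬ Good T c → ∀ d ∈ fixSet Ω T, d ≠ c →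
      (∀ A : Subgroup G, T ≤ A → IsPGroup l A → A ≤ stabilizer G c ⊓ stabilizer G d → A = T) ∨
      ∃ T' : Subgroup G, IsPGroup l T' ∧ T' ≤ N ∧ c ∈ fixSet Ω T' ∧ d ∈ fixSet Ω T' ∧
        ∀ e ∈ fixSet Ω T', e = c ∨ e = d := by
    intro c hcF hbad d hdF hdc
    by_cases hmax : ∀ A : Subgroup G, T ≤ A → IsPGroup l A → A ≤ stabilizer G c ⊓ stabilizer G d → A = T
    · exact Or.inl hmax
    push Not at hmax
    obtain ⟨A, hTA, hA, hAD, hne⟩ := hmax
    refine Or.inr ⟨A ⊓ N, hA.to_le inf_le_left, inf_le_right, fun g hg => (hAD hg.1).1,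
      fun g hg => (hAD hg.1).2, fun e he => ?_⟩
    have hlt : T < A ⊓ N := by
      refine lt_of_le_of_ne (le_inf hTA le_normalizer) fun e0 => ?_
      haveI := hA.isNilpotent
      have hlt' : T.subgroupOf A < ⊤ := by
        rw [lt_top_iff_ne_top, Ne, subgroupOf_eq_top]
        exact fun h => hne (le_antisymm h hTA)
      obtain ⟨g, hg, hgn⟩ :=
        SetLike.exists_of_lt (Group.normalizerCondition_of_isNilpotent _ hlt')
      refine hgn ?_
      rw [mem_subgroupOf, e0]
      refine ⟨g.2, mem_normalizer_iff.2 fun h => ?_⟩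
      have hn' := mem_normalizer_iff.1 hg
      constructor
      · exact fun hh => (hn' ⟨h, hTA hh⟩).1 hh
      · intro hh
        have hhA : h ∈ A := by
          simpa [mul_assoc] using mul_mem (mul_mem (inv_mem g.2) (hTA hh)) g.2
        exact (hn' ⟨h, hhA⟩).2 hh
    by_contra hcon
    push Not at hcon
    have hcT' : c ∈ fixSet Ω (A ⊓ N) := fun g hg => (hAD hg.1).1
    have hdT' : d ∈ fixSet Ω (A ⊓ N) := fun g hg => (hAD hg.1).2
    have hcard : Nat.card G - Nat.card ↥(A ⊓ N) < n := by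
      subst hn
      have h1 : Nat.card T < Nat.card ↥(A ⊓ N) :=
        Set.ncard_lt_ncard (SetLike.coe_ssubset_coe.2 hlt) (Set.toFinite _)
      have h2 : Nat.card ↥(A ⊓ N) ≤ Nat.card G := Subgroup.card_le_card_group _
      omega
    exact hbad (Good.mono hlt.le (ih _ hcard (hA.to_le inf_le_left) hcT' hdT' he hdc.symm
      hcon.1.symm hcon.2.symm hcT' rfl))
  -- transitivity of the normaliser around a bad point
  have hstab : ∀ c ∈ fixSet Ω T, ¬ Good T c → ∀ d ∈ fixSet Ω T, d ≠ c → ∀ e ∈ fixSet Ω T, e ≠ c →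
      ∃ g ∈ N, g • c = c ∧ g • d = e := by
    intro c hcF hbad
    by_cases hmax : ∃ f ∈ fixSet Ω T, f ≠ c ∧
        ∀ A : Subgroup G, T ≤ A → IsPGroup l A → A ≤ stabilizer G c ⊓ stabilizer G f → A = T
    · obtain ⟨f, hfF, hfc, hfmax⟩ := hmax
      have key : ∀ d ∈ fixSet Ω T, d ≠ c → ∃ g ∈ N, g • c = c ∧ g • d = f := by
        intro d hdF hdc
        obtain ⟨g, hgc, hgd⟩ := hc.exists_smul_pair ht hdc.symm hfc.symm
        set D := stabilizer G c ⊓ stabilizer G f
        have hTD : T ≤ D := fun s hs => ⟨hcF s hs, hfF s hs⟩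
        set T₂ := T.map (MulAut.conj g).toMonoidHom with hT₂
        have hT₂D : T₂ ≤ D := by
          rintro _ ⟨s, hs, rfl⟩
          refine ⟨?_, ?_⟩
          · show (g * s * g⁻¹) • c = c
            rw [mul_smul, mul_smul, inv_smul_eq_iff.2 hgc.symm, hcF s hs, hgc]
          · show (g * s * g⁻¹) • f = f
            rw [mul_smul, mul_smul, inv_smul_eq_iff.2 hgd.symm, hdF s hs, hgd]
        obtain ⟨S₁, hS₁⟩ := (hTp.comap_subtype (K := D)).exists_le_sylow
        have hS₁eq : (S₁ : Subgroup D).map D.subtype = T := by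
          refine hfmax _ (fun s hs => ⟨⟨s, hTD hs⟩, hS₁ hs, rfl⟩) (S₁.isPGroup'.map _) (map_subtype_le _)
        obtain ⟨S₂, hS₂⟩ := ((hTp.map _).comap_subtype (K := D) (H := T₂)).exists_le_sylow
        obtain ⟨k, hk⟩ := MulAction.exists_smul_eq D S₂ S₁
        have hkT : ∀ s ∈ T₂, (k : G) * s * (k : G)⁻¹ ∈ T := by
          intro s hs
          rw [← hS₁eq]
          have h1 : k * ⟨s, hT₂D hs⟩ * k⁻¹ ∈ (S₁ : Subgroup D) := by
            rw [← hk]
            show k * ⟨s, hT₂D hs⟩ * k⁻¹ ∈ ((k • S₂ : Sylow l D) : Subgroup D)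
            rw [Sylow.smul_def, Sylow.pointwise_smul_def]
            exact ⟨⟨s, hT₂D hs⟩, hS₂ hs, rfl⟩
          exact ⟨_, h1, rfl⟩
        have hmap : T.map (MulAut.conj ((k : G) * g)).toMonoidHom ≤ T := by
          rintro _ ⟨s, hs, rfl⟩
          have := hkT _ ⟨s, hs, rfl⟩
          show (k : G) * g * s * ((k : G) * g)⁻¹ ∈ T
          simpa [mul_assoc] using this
        have hmapeq : T.map (MulAut.conj ((k : G) * g)).toMonoidHom = T :=
          SetLike.coe_injective (Set.eq_of_subset_of_ncard_le hmap (le_of_eq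
            (Subgroup.card_map_of_injective (MulAut.conj ((k : G) * g)).injective).symm) (Set.toFinite _))
        refine ⟨(k : G) * g, mem_normalizer_iff.2 fun s => ?_, by rw [mul_smul, hgc]; exact k.2.1,
          by rw [mul_smul, hgd]; exact k.2.2⟩
        constructor
        · exact fun hs => hmap ⟨s, hs, rfl⟩
        · intro hs
          rw [← hmapeq] at hs
          obtain ⟨s', hs', he⟩ := hs
          rwa [← (MulAut.conj ((k : G) * g)).injective he]
      intro d hdF hdc e heF hec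
      obtain ⟨g₁, hg₁, hg₁c, hg₁d⟩ := key d hdF hdc
      obtain ⟨g₂, hg₂, hg₂c, hg₂e⟩ := key e heF hec
      exact ⟨g₂⁻¹ * g₁, mul_mem (inv_mem hg₂) hg₁, by rw [mul_smul, hg₁c, inv_smul_eq_iff, hg₂c],
        by rw [mul_smul, hg₁d, inv_smul_eq_iff, hg₂e]⟩
    · push Not at hmax
      intro d hdF hdc e heF hec
      let A := N ⊓ stabilizer G c
      let X := {f : Ω // f ∈ fixSet Ω T ∧ f ≠ c}
      letI : MulAction A X :=
        { smul := fun g f => ⟨(g : G) • f.1, smul_fixSet g.2.1 f.2.1, fun h => f.2.2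
            (smul_left_cancel (g : G) (h.trans g.2.2.symm))⟩
          one_smul := fun f => Subtype.ext (one_smul G f.1)
          mul_smul := fun g h f => Subtype.ext (mul_smul (g : G) h f.1) }
      obtain ⟨g, hg⟩ := gleason (A := A) (l := l) (fun f : X => by
        obtain ⟨A', hTA', hA', hAD', hne'⟩ := hmax f.1 f.2.1 f.2.2
        obtain hm | ⟨T', hT', hT'N, hcT', hfT', honly⟩ := hpair c hcF hbad f.1 f.2.1 f.2.2
        · exact absurd (hm A' hTA' hA' hAD') hne'
        refine ⟨T'.subgroupOf A, hT'.comap_subtype, fun p hp => Subtype.ext (hfT' p hp), fun y hy => ?_⟩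
        have hT'A : T' ≤ A := fun s hs => ⟨hT'N hs, hcT' s hs⟩
        rcases honly y.1 (fun s hs => congrArg Subtype.val (hy ⟨s, hT'A hs⟩ hs)) with h | h
        · exact absurd h y.2.2
        · exact Subtype.ext h) ⟨d, hdF, hdc⟩ ⟨e, heF, hec⟩
      exact ⟨(g : G), g.2.1, g.2.2, congrArg Subtype.val hg⟩
  by_contra hbad₀
  -- every fixed point is bad
  have hallbad : ∀ c ∈ fixSet Ω T, ¬ Good T c := by
    intro c hcF hgood
    have hcc : c ≠ c₀ := fun e => hbad₀ (e ▸ hgood)
    have huniq : ∀ d ∈ fixSet Ω T, ¬ Good T d → d = c₀ := by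
      intro d hdF hd
      by_contra hdc
      obtain ⟨g, hg, -, hgcd⟩ := hstab c₀ hc₀ hbad₀ c hcF hcc d hdF hdc
      exact hd (hgcd ▸ hgood.smul hg)
    obtain ⟨w, hw, hwc, hwT⟩ := hgood
    have hwN : w ∈ N := centralizer_le_normalizer _ hwT
    have hw0 : w • c₀ = c₀ := huniq _ (smul_fixSet hwN hc₀) fun h => hbad₀ (by
      have := h.smul (inv_mem hwN)
      rwa [inv_smul_smul] at this)
    exact hcc (hc.fix_eq hw hwc hw0)
  have hfpf : ∀ w ∈ N, orderOf w = 2 → ∀ c ∈ fixSet Ω T, w • c ≠ c := fun w hwN hw c hcF hwc =>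
    hallbad c hcF ⟨w, hw, hwc, hc.invol_cent hTodd hw hwc hwN hcF⟩
  have hrank : BrauerSuzuki.RankOne N := by
    intro v w hv hw hvw
    by_contra hne
    have hv' : orderOf (v : G) = 2 := by rwa [Subgroup.orderOf_coe]
    obtain ⟨d, hvd, -⟩ := hc.inv_fix (v : G) hv'
    have hdF := hc.fix_of_four hTodd hv' (by rwa [Subgroup.orderOf_coe]) (congrArg Subtype.val hvw.eq)
      (fun e => hne (Subtype.ext e)) v.2 w.2 hvd
    exact hfpf v v.2 hv' d hdF hvd
  -- swappers
  have hswap : ∀ d ∈ fixSet Ω T, d ≠ c₀ → ∃ w : N, orderOf w = 2 ∧ (w : G) • c₀ = d ∧ (w : G) • d = c₀ := by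
    intro d hdF hdc
    obtain ⟨e, heF, hec, hed⟩ : ∃ e ∈ fixSet Ω T, e ≠ c₀ ∧ e ≠ d := by
      by_contra hno
      push Not at hno
      have h : ∀ e ∈ fixSet Ω T, e = c₀ ∨ e = d := fun e he => or_iff_not_imp_left.2 (hno e he)
      rcases h x hx with h1 | h1 <;> rcases h y hy with h2 | h2 <;> rcases h z hz with h3 | h3 <;>
        first | exact hxy (h1.trans h2.symm) | exact hxz (h1.trans h3.symm) | exact hyz (h2.trans h3.symm)
    obtain ⟨g₁, hg₁, hg₁d, hg₁c⟩ := hstab d hdF (hallbad d hdF) c₀ hc₀ hdc.symm e heF hed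
    obtain ⟨g₂, hg₂, hg₂c, hg₂d⟩ := hstab e heF (hallbad e heF) d hdF hed.symm c₀ hc₀ hec.symm
    have hgd : (g₂ * g₁) • d = c₀ := by rw [mul_smul, hg₁d, hg₂d]
    have hgc : (g₂ * g₁) • c₀ = e := by rw [mul_smul, hg₁c, hg₂c]
    obtain ⟨g₃, hg₃, hg₃c, hg₃e⟩ := hstab c₀ hc₀ hbad₀ e heF hec d hdF hdc
    obtain ⟨g, hgN, hg1, hg2⟩ : ∃ g ∈ N, g • d = c₀ ∧ g • c₀ = d :=
      ⟨g₃ * (g₂ * g₁), mul_mem hg₃ (mul_mem hg₂ hg₁), by rw [mul_smul, hgd, hg₃c],
        by rw [mul_smul, hgc, hg₃e]⟩
    obtain ⟨k, m, hm, hkm⟩ := Nat.exists_eq_two_pow_mul_odd (orderOf_pos g).ne'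
    have hsq : ∀ j : ℕ, (g ^ (2 * j)) • c₀ = c₀ := by
      intro j
      induction j with
      | zero => simp
      | succ j ihj =>
        rw [show 2 * (j + 1) = 2 * j + 1 + 1 by ring, pow_succ', pow_succ', mul_smul, mul_smul, ihj, hg2, hg1]
    obtain ⟨j, rfl⟩ := hm
    set w := g ^ (2 * j + 1)
    have hw2 : w • c₀ = d := by
      show g ^ (2 * j + 1) • c₀ = d
      rw [pow_succ', mul_smul, hsq, hg2]
    have hwd : w • d = c₀ := by
      show g ^ (2 * j + 1) • d = c₀
      rw [pow_succ, mul_smul, hg1, hsq]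
    have hword : w ^ (2 ^ k) = 1 := by
      show (g ^ (2 * j + 1)) ^ 2 ^ k = 1
      rw [← pow_mul, mul_comm, ← hkm, pow_orderOf_eq_one]
    obtain ⟨i, -, hoi⟩ := (Nat.dvd_prime_pow Nat.prime_two).1 (orderOf_dvd_of_pow_eq_one hword)
    have hwN : w ∈ N := pow_mem hgN _
    match i, hoi with
    | 0, hoi =>
      rw [pow_zero, orderOf_eq_one_iff] at hoi
      rw [hoi, one_smul] at hw2
      exact absurd hw2.symm hdc
    | 1, hoi => exact ⟨⟨w, hwN⟩, by rw [Subgroup.orderOf_mk, hoi, pow_one], hw2, hwd⟩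
    | i + 2, hoi =>
      exfalso
      have hz : orderOf (w ^ (2 ^ (i + 1))) = 2 := by
        rw [orderOf_pow' w (by positivity), hoi, Nat.gcd_eq_right (pow_dvd_pow 2 (Nat.le_succ _)),
          pow_succ 2 (i + 1), Nat.mul_div_cancel_left _ (by positivity)]
      refine hfpf _ (pow_mem hwN _) hz c₀ hc₀ ?_
      show ((g ^ (2 * j + 1)) ^ 2 ^ (i + 1)) • c₀ = c₀
      rw [← pow_mul, show (2 * j + 1) * 2 ^ (i + 1) = 2 * ((2 * j + 1) * 2 ^ i) by ring]
      exact hsq _
  obtain ⟨d₁, hd₁F, hd₁c⟩ : ∃ d ∈ fixSet Ω T, d ≠ c₀ := by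
    by_contra hno
    push Not at hno
    exact hxy ((hno x hx).trans (hno y hy).symm)
  obtain ⟨v, hv, hvc, hvd⟩ := hswap d₁ hd₁F hd₁c
  set O := Cfsg.pPrimeCore 2 N
  have hOodd : Odd (Nat.card O) := SEBrick.oddCore_odd
  have hOn : O.Normal := FittingCores.pPrimeCore_normal 2
  -- every other fixed point is an image of the partner of `c₀`
  have horb : ∀ d ∈ fixSet Ω T, d ≠ c₀ → ∃ o ∈ O, (o : G) • d₁ = d := by
    intro d hdF hdc
    obtain ⟨w, hw, hwc, -⟩ := hswap d hdF hdc
    haveI : Fact (Nat.Prime 2) := ⟨Nat.prime_two⟩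
    have hpv : IsPGroup 2 (zpowers v) := IsPGroup.of_card (n := 1) (by rw [Nat.card_zpowers, hv, pow_one])
    have hpw : IsPGroup 2 (zpowers w) := IsPGroup.of_card (n := 1) (by rw [Nat.card_zpowers, hw, pow_one])
    obtain ⟨S, hS⟩ := hpv.exists_le_sylow
    obtain ⟨R, hR⟩ := hpw.exists_le_sylow
    obtain ⟨g, hg⟩ := MulAction.exists_smul_eq N S R
    have hgv : g * v * g⁻¹ ∈ (R : Subgroup N) := by
      rw [← hg]
      exact ⟨v, hS (mem_zpowers v), rfl⟩
    have heq : g * v * g⁻¹ = w :=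
      hrank.unique_invol R.isPGroup' hgv (hR (mem_zpowers w)) ((Invol.order_conj g v).trans hv) hw
    refine ⟨g * v * g⁻¹ * v⁻¹, BrauerSuzuki.inZStar N hrank v hv g, ?_⟩
    rw [heq, Invol.inv_self hv]
    show ((w : G) * (v : G)) • d₁ = d
    rw [mul_smul, hvd, hwc]
  -- the odd core moves nothing
  haveI : Fact (Nat.Prime 2) := ⟨Nat.prime_two⟩
  by_cases hc0 : ∃ o ∈ O, (o : G) • d₁ = c₀
  · -- one orbit: `v` would be a fixed-point-free involution on an odd number of points
    letI : MulAction N (fixSet Ω T) :=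
      { smul := fun g f => ⟨(g : G) • f.1, smul_fixSet g.2 f.2⟩
        one_smul := fun f => Subtype.ext (one_smul G f.1)
        mul_smul := fun g h f => Subtype.ext (mul_smul (g : G) h f.1) }
    haveI : MulAction.IsPretransitive O (fixSet Ω T) := by
      have key : ∀ f : fixSet Ω T, ∃ o : O, ((o : N) : G) • d₁ = f.1 := by
        intro f
        by_cases h : f.1 = c₀
        · obtain ⟨o, ho, hoc⟩ := hc0
          exact ⟨⟨o, ho⟩, by rw [h]; exact hoc⟩
        · obtain ⟨o, ho, hoc⟩ := horb _ f.2 h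
          exact ⟨⟨o, ho⟩, hoc⟩
      refine ⟨fun f f' => ?_⟩
      obtain ⟨o, ho⟩ := key f
      obtain ⟨o', ho'⟩ := key f'
      refine ⟨o' * o⁻¹, Subtype.ext ?_⟩
      show (((o' * o⁻¹ : O) : N) : G) • f.1 = f'.1
      push_cast
      rw [mul_smul, ← ho, inv_smul_smul, ho']
    have hodd : Odd (Nat.card (fixSet Ω T)) := by
      rw [← MulAction.index_stabilizer_of_transitive O (⟨c₀, hc₀⟩ : fixSet Ω T)]
      exact hOodd.of_dvd_nat (Subgroup.index_dvd_card _)
    have hpv : IsPGroup 2 (zpowers v) := IsPGroup.of_card (n := 1) (by rw [Nat.card_zpowers, hv, pow_one])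
    have hmod := hpv.card_modEq_card_fixedPoints (fixSet Ω T)
    haveI : IsEmpty (fixedPoints (zpowers v) (fixSet Ω T)) := ⟨fun f =>
      hfpf v v.2 (by rw [Subgroup.orderOf_coe]; exact hv) _ f.1.2
        (congrArg Subtype.val (f.2 ⟨v, mem_zpowers v⟩))⟩
    rw [Nat.card_of_isEmpty (α := fixedPoints (zpowers v) (fixSet Ω T)), Nat.modEq_zero_iff_dvd] at hmod
    exact Nat.not_even_iff_odd.2 hodd (even_iff_two_dvd.2 hmod)
  · -- `c₀` is fixed by the odd core
    have hOc : ∀ o ∈ O, (o : G) • c₀ = c₀ := by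
      intro o ho
      by_contra hne
      obtain ⟨o', ho', he⟩ := horb _ (smul_fixSet o.2 hc₀) hne
      refine hc0 ⟨o⁻¹ * o', mul_mem (inv_mem ho) ho', ?_⟩
      show ((o : G)⁻¹ * (o' : G)) • d₁ = c₀
      rw [mul_smul, he, inv_smul_smul]
    have hOd : ∀ o ∈ O, (o : G) • d₁ = d₁ := by
      intro o ho
      have h1 := hOc (v⁻¹ * o * v⁻¹⁻¹) (hOn.conj_mem o ho v⁻¹)
      rw [inv_inv] at h1
      push_cast at h1
      rw [mul_smul, mul_smul, hvc, inv_smul_eq_iff, hvc] at h1
      exact h1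
    have hall : ∀ f ∈ fixSet Ω T, f = c₀ ∨ f = d₁ := by
      intro f hf
      by_cases h : f = c₀
      · exact Or.inl h
      · obtain ⟨o, ho, hof⟩ := horb f hf h
        exact Or.inr (by rw [← hof, hOd o ho])
    rcases hall x hx with h1 | h1 <;> rcases hall y hy with h2 | h2 <;> rcases hall z hz with h3 | h3 <;>
      first | exact hxy (h1.trans h2.symm) | exact hxz (h1.trans h3.symm) | exact hyz (h2.trans h3.symm)

end Cfg

end Cfsg.Agent.SERegular
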